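import Mathlib
import Groth.Prelude.Def_FilD

/-! Filtered objects as functors: strictness and graded exactness. -/

set_option backward.isDefEq.respectTransparency false
set_option linter.unusedSectionVars false

universe v u

open CategoryTheory CategoryTheory.Limits Opposite FilD

namespace Groth.Agent.H7.Fil

variable {A : Type u} [Category.{v} A] [Abelian A]

/-- transition map `F q ⟶ F p` for `p ≤ q` -/
noncomputable abbrev mp (F : ℤᵒᵖ ⥤ A) {p q : ℤ} (h : p ≤ q) : F.obj (op q) ⟶ F.obj (op p) := F.map (homOfLE h).op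

lemma map_eq_mp (F : ℤᵒᵖ ⥤ A) {p q : ℤᵒᵖ} (f : p ⟶ q) : F.map f = mp F (leOfHom f.unop) := rfl

lemma mp_refl (F : ℤᵒᵖ ⥤ A) (p : ℤ) : mp F (le_refl p) = 𝟙 _ := F.map_id _

@[reassoc (attr := simp)]
lemma mp_comp (F : ℤᵒᵖ ⥤ A) {p q r : ℤ} (h : p ≤ q) (h' : q ≤ r) : mp F h' ≫ mp F h = mp F (h.trans h') := by
  rw [← F.map_comp]; rfl

@[reassoc]
lemma mp_nat {F G : ℤᵒᵖ ⥤ A} (φ : F ⟶ G) {p q : ℤ} (h : p ≤ q) :
    mp F h ≫ φ.app (op p) = φ.app (op q) ≫ mp G h := φ.naturality _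

/-- all transition maps are monomorphisms -/
def Mn (F : ℤᵒᵖ ⥤ A) : Prop := ∀ ⦃p q : ℤᵒᵖ⦄ (f : p ⟶ q), Mono (F.map f)

lemma mn_of_fin {F : ℤᵒᵖ ⥤ A} (hF : IsFinFil A F) : Mn F := hF.1

/-- projection to the graded piece -/
noncomputable abbrev grπ (F : ℤᵒᵖ ⥤ A) (p : ℤ) : F.obj (op p) ⟶ (gr A p).obj F := cokernel.π (F.map (stepHom p))

lemma step_eq_mp (F : ℤᵒᵖ ⥤ A) (p : ℤ) : F.map (stepHom p) = mp F (Int.le_add_one le_rfl : p ≤ p + 1) := rfl

@[reassoc (attr := simp)]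
lemma grπ_map {F G : ℤᵒᵖ ⥤ A} (φ : F ⟶ G) (p : ℤ) : grπ F p ≫ (gr A p).map φ = φ.app (op p) ≫ grπ G p := by
  simp [gr, grπ]

@[reassoc (attr := simp)]
lemma mp_grπ (F : ℤᵒᵖ ⥤ A) (p : ℤ) (h : p ≤ p + 1) : mp F h ≫ grπ F p = 0 := cokernel.condition _

lemma exists_of_grπ_eq_zero (F : ℤᵒᵖ ⥤ A) (p : ℤ) {T : A} (x : T ⟶ F.obj (op p)) (hx : x ≫ grπ F p = 0) :
    ∃ (T' : A) (e : T' ⟶ T) (_ : Epi e) (x' : T' ⟶ F.obj (op (p + 1))),
      e ≫ x = x' ≫ mp F (Int.le_add_one le_rfl) :=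
  (ShortComplex.exact_of_g_is_cokernel (ShortComplex.mk _ (grπ F p) (cokernel.condition (F.map (stepHom p))))
    (cokernelIsCokernel _)).exact_up_to_refinements x hx

/-- strictness, elementwise -/
def Strict {F G : ℤᵒᵖ ⥤ A} (φ : F ⟶ G) : Prop :=
  ∀ (p q : ℤ) (h : p ≤ q) (T : A) (x : T ⟶ F.obj (op p)) (y : T ⟶ G.obj (op q)),
    x ≫ φ.app (op p) = y ≫ mp G h →
      ∃ (T' : A) (e : T' ⟶ T) (_ : Epi e) (x' : T' ⟶ F.obj (op q)), e ≫ y = x' ≫ φ.app (op q)

lemma factors_imageSubobject {X Y : A} (f : X ⟶ Y) {T : A} (y : T ⟶ Y) :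
    (imageSubobject f).Factors y ↔ ∃ (T' : A) (e : T' ⟶ T) (_ : Epi e) (x : T' ⟶ X), e ≫ y = x ≫ f := by
  constructor
  · intro h
    obtain ⟨T', e, he, x, hx⟩ :=
      surjective_up_to_refinements_of_epi (factorThruImageSubobject f) ((imageSubobject f).factorThru y h)
    refine ⟨T', e, he, x, ?_⟩
    have := congrArg (fun t => t ≫ (imageSubobject f).arrow) hx
    simpa using this
  · rintro ⟨T', e, he, x, hx⟩
    have hf : f ≫ cokernel.π (imageSubobject f).arrow = 0 := by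
      calc f ≫ cokernel.π (imageSubobject f).arrow
          = (factorThruImageSubobject f ≫ (imageSubobject f).arrow) ≫ cokernel.π (imageSubobject f).arrow :=
            congrArg (· ≫ cokernel.π (imageSubobject f).arrow) (imageSubobject_arrow_comp f).symm
        _ = 0 := by rw [Category.assoc, cokernel.condition, comp_zero]
    have h0 : y ≫ cokernel.π (imageSubobject f).arrow = 0 := by
      haveI := he
      rw [← cancel_epi e, ← Category.assoc, hx, Category.assoc, hf, comp_zero, comp_zero]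
    have h1 := Subobject.factors_comp_arrow (Abelian.monoLift (imageSubobject f).arrow y h0)
    rwa [Abelian.monoLift_comp] at h1

lemma strict_iff {F G : FilF A} (φ : F ⟶ G) : IsStrict φ ↔ Strict φ.hom := by
  constructor
  · intro hφ p q h T x y hxy
    haveI := G.property.1 (homOfLE h).op
    have h1 : (imageSubobject (φ.hom.app (op q) ≫ G.obj.map (homOfLE h).op)).Factors (y ≫ mp G.obj h) := by
      rw [hφ p q h, Subobject.inf_factors, factors_imageSubobject]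
      exact ⟨⟨T, 𝟙 T, inferInstance, x, by rw [Category.id_comp, hxy]⟩, ⟨y, rfl⟩⟩
    obtain ⟨T', e, he, x', hx'⟩ := (factors_imageSubobject _ _).1 h1
    exact ⟨T', e, he, x', by rw [← cancel_mono (mp G.obj h)]; simpa using hx'⟩
  · intro hφ p q h
    haveI := G.property.1 (homOfLE h).op
    apply le_antisymm
    · refine le_inf ?_ ?_
      · refine imageSubobject_le _ (factorThruImageSubobject (φ.hom.app (op p)) |> fun t => F.obj.map (homOfLE h).op ≫ t) ?_
        rw [Category.assoc, imageSubobject_arrow_comp]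
        exact φ.hom.naturality _
      · refine imageSubobject_le _ (φ.hom.app (op q) ≫ (Subobject.underlyingIso (G.obj.map (homOfLE h).op)).inv) ?_
        rw [Category.assoc, Subobject.underlyingIso_arrow]
    · refine Subobject.le_of_comm (Subobject.factorThru _ _ ?_) (Subobject.factorThru_arrow _ _ _)
      have h2 := Subobject.factors_self (imageSubobject (φ.hom.app (op p)) ⊓ Subobject.mk (G.obj.map (homOfLE h).op))
      rw [Subobject.inf_factors, factors_imageSubobject] at h2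
      obtain ⟨⟨T', e, he, x, hx⟩, ⟨y, hy⟩⟩ := h2
      haveI := he
      obtain ⟨T'', e', he', x', hx'⟩ := hφ p q h T' x (e ≫ y) (by rw [← hx, Category.assoc]; exact congrArg (e ≫ ·) hy.symm)
      haveI := he'
      exact (factors_imageSubobject _ _).2 ⟨T'', e' ≫ e, inferInstance, x', by
        rw [← reassoc_of% hx', Category.assoc]; exact congrArg (e' ≫ e ≫ ·) hy.symm⟩

/-- the second map of a graded exact sequence is strict -/
lemma strict_of_gr_exact (S : ShortComplex (ℤᵒᵖ ⥤ A)) (h₃ : Mn S.X₃) (hS : ∀ p : ℤ, (S.map (gr A p)).Exact) :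
    Strict S.g := by
  intro p q h T x y hxy
  induction q, h using Int.le_induction generalizing T x with
  | base => exact ⟨T, 𝟙 T, inferInstance, x, by rw [mp_refl, Category.comp_id] at hxy; rw [Category.id_comp, hxy]⟩
  | succ q hpq ih =>
    obtain ⟨T₁, e₁, he₁, x₁, hx₁⟩ := ih T x (y ≫ mp S.X₃ (Int.le_add_one le_rfl))
      (by rw [hxy, Category.assoc, mp_comp])
    have h0 : (x₁ ≫ grπ S.X₂ q) ≫ (S.map (gr A q)).g = 0 := by
      show (x₁ ≫ grπ S.X₂ q) ≫ (gr A q).map S.g = 0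
      rw [Category.assoc, grπ_map, ← Category.assoc, ← hx₁]
      simp
    obtain ⟨T₂, e₂, he₂, z, hz⟩ := (hS q).exact_up_to_refinements _ h0
    obtain ⟨T₃, e₃, he₃, w, hw⟩ := surjective_up_to_refinements_of_epi (grπ S.X₁ q) z
    have h1 : ((e₃ ≫ e₂) ≫ x₁ - w ≫ S.f.app (op q)) ≫ grπ S.X₂ q = 0 := by
      simp only [Preadditive.sub_comp, Category.assoc]
      rw [hz, ← grπ_map, ← reassoc_of% hw, sub_eq_zero]
      rfl
    obtain ⟨T₄, e₄, he₄, y', hy'⟩ := exists_of_grπ_eq_zero S.X₂ q _ h1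
    refine ⟨T₄, e₄ ≫ e₃ ≫ e₂ ≫ e₁, inferInstance, y', ?_⟩
    haveI := h₃ (homOfLE (Int.le_add_one le_rfl : q ≤ q + 1)).op
    rw [← cancel_mono (mp S.X₃ (Int.le_add_one le_rfl : q ≤ q + 1))]
    have := congrArg (· ≫ S.g.app (op q)) hy'
    simp only [Category.assoc, mp_nat] at this
    simp only [Category.assoc, ← this, Preadditive.comp_sub, Preadditive.sub_comp]
    rw [← NatTrans.comp_app, S.zero]
    simp [reassoc_of% hx₁, hx₁]

/-- levelwise exactness from graded exactness -/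
lemma exact_app_of_gr_exact (S : ShortComplex (ℤᵒᵖ ⥤ A)) (h₃ : Mn S.X₃)
    (hb : ∃ b : ℤ, ∀ p, b ≤ p → IsZero (S.X₂.obj (op p)))
    (hS : ∀ p : ℤ, (S.map (gr A p)).Exact) (p : ℤ) : (S.map ((evaluation ℤᵒᵖ A).obj (op p))).Exact := by
  obtain ⟨b, hb⟩ := hb
  obtain ⟨d, hd⟩ : ∃ d : ℕ, b ≤ p + d := ⟨(b - p).toNat, by omega⟩
  induction d generalizing p with
  | zero => exact ShortComplex.exact_of_isZero_X₂ _ (hb p (by omega))
  | succ d ih =>
    rw [ShortComplex.exact_iff_exact_up_to_refinements]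
    intro T (x : T ⟶ S.X₂.obj (op p)) (hx : x ≫ S.g.app (op p) = 0)
    have h0 : (x ≫ grπ S.X₂ p) ≫ (S.map (gr A p)).g = 0 := by
      show (x ≫ grπ S.X₂ p) ≫ (gr A p).map S.g = 0
      rw [Category.assoc, grπ_map, reassoc_of% hx, zero_comp]
    obtain ⟨T₂, e₂, he₂, z, hz⟩ := (hS p).exact_up_to_refinements _ h0
    obtain ⟨T₃, e₃, he₃, w, hw⟩ := surjective_up_to_refinements_of_epi (grπ S.X₁ p) z
    have h1 : ((e₃ ≫ e₂) ≫ x - w ≫ S.f.app (op p)) ≫ grπ S.X₂ p = 0 := by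
      simp only [Preadditive.sub_comp, Category.assoc]
      rw [hz, ← grπ_map, ← reassoc_of% hw, sub_eq_zero]
      rfl
    obtain ⟨T₄, e₄, he₄, y', hy'⟩ := exists_of_grπ_eq_zero S.X₂ p _ h1
    haveI := h₃ (homOfLE (Int.le_add_one le_rfl : p ≤ p + 1)).op
    have h2 : y' ≫ S.g.app (op (p + 1)) = 0 := by
      rw [← cancel_mono (mp S.X₃ (Int.le_add_one le_rfl : p ≤ p + 1)), Category.assoc, ← mp_nat,
        ← reassoc_of% hy', Preadditive.sub_comp]
      simp only [Category.assoc, hx, comp_zero, zero_sub, ← NatTrans.comp_app, S.zero]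
      simp
    obtain ⟨T₅, e₅, he₅, (w' : T₅ ⟶ S.X₁.obj (op (p + 1))), (hw' : e₅ ≫ y' = w' ≫ S.f.app (op (p + 1)))⟩ :=
      (ih (p + 1) (by omega)).exact_up_to_refinements y' h2
    refine ⟨T₅, e₅ ≫ e₄ ≫ e₃ ≫ e₂, inferInstance, w' ≫ mp S.X₁ (Int.le_add_one le_rfl) + e₅ ≫ e₄ ≫ w, ?_⟩
    show _ = _ ≫ S.f.app (op p)
    have := congrArg (e₅ ≫ ·) hy'
    simp only [Preadditive.comp_sub, Category.assoc, reassoc_of% hw', ← mp_nat, sub_eq_iff_eq_add] at this
    simp only [Preadditive.add_comp, Category.assoc]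
    exact this

/-- the first map of a levelwise exact sequence with injective transition maps is strict -/
lemma strict_f_of_exact (S : ShortComplex (ℤᵒᵖ ⥤ A)) (h₃ : Mn S.X₃)
    (hS : ∀ p : ℤ, (S.map ((evaluation ℤᵒᵖ A).obj (op p))).Exact) : Strict S.f := by
  intro p q h T x y hxy
  have h0 : y ≫ S.g.app (op q) = 0 := by
    haveI := h₃ (homOfLE h).op
    rw [← cancel_mono (mp S.X₃ h), Category.assoc, ← mp_nat, ← reassoc_of% hxy, ← NatTrans.comp_app, S.zero]
    simp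
  obtain ⟨T', e, he, x', hx'⟩ := (hS q).exact_up_to_refinements y h0
  exact ⟨T', e, he, x', hx'⟩

/-- graded exactness from levelwise exactness and strictness -/
lemma gr_exact_of_strict (S : ShortComplex (ℤᵒᵖ ⥤ A)) (hg : Strict S.g)
    (hS : ∀ p : ℤ, (S.map ((evaluation ℤᵒᵖ A).obj (op p))).Exact) (p : ℤ) : (S.map (gr A p)).Exact := by
  rw [ShortComplex.exact_iff_exact_up_to_refinements]
  intro T z (hz : z ≫ (gr A p).map S.g = 0)
  obtain ⟨T₁, e₁, he₁, y, hy⟩ := surjective_up_to_refinements_of_epi (grπ S.X₂ p) z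
  have h0 : (y ≫ S.g.app (op p)) ≫ grπ S.X₃ p = 0 := by
    rw [Category.assoc, ← grπ_map, ← reassoc_of% hy, hz, comp_zero]
  obtain ⟨T₂, e₂, he₂, w, hw⟩ := exists_of_grπ_eq_zero S.X₃ p _ h0
  obtain ⟨T₃, e₃, he₃, y', hy'⟩ := hg p (p + 1) (Int.le_add_one le_rfl) T₂ (e₂ ≫ y) w (by rw [Category.assoc, hw])
  have h1 : ((e₃ ≫ e₂) ≫ y - y' ≫ mp S.X₂ (Int.le_add_one le_rfl)) ≫ S.g.app (op p) = 0 := by
    simp only [Preadditive.sub_comp, Category.assoc, mp_nat, reassoc_of% hw, hw, ← reassoc_of% hy', sub_self]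
  obtain ⟨T₄, e₄, he₄, (x : T₄ ⟶ S.X₁.obj (op p)), (hx : _ = x ≫ S.f.app (op p))⟩ :=
    (hS p).exact_up_to_refinements _ h1
  refine ⟨T₄, e₄ ≫ e₃ ≫ e₂ ≫ e₁, inferInstance, x ≫ grπ S.X₁ p, ?_⟩
  show _ = _ ≫ (gr A p).map S.f
  rw [Category.assoc x, grπ_map, ← reassoc_of% hx]
  simp [Preadditive.sub_comp, Preadditive.comp_sub, hy]

lemma strict_of_epi {F G : ℤᵒᵖ ⥤ A} (φ : F ⟶ G) [∀ p, Epi (φ.app p)] : Strict φ := by
  intro p q h T x y hxy
  obtain ⟨T', e, he, x', hx'⟩ := surjective_up_to_refinements_of_epi (φ.app (op q)) y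
  exact ⟨T', e, he, x', hx'⟩

lemma exact_app (S : ShortComplex (ℤᵒᵖ ⥤ A)) (hS : S.Exact) (p : ℤ) :
    (S.map ((evaluation ℤᵒᵖ A).obj (op p))).Exact :=
  hS.map _

lemma exact_of_app (S : ShortComplex (ℤᵒᵖ ⥤ A))
    (hS : ∀ p : ℤ, (S.map ((evaluation ℤᵒᵖ A).obj (op p))).Exact) : S.Exact :=
  by
  rw [ShortComplex.exact_iff_isZero_homology, Functor.isZero_iff]
  intro p
  exact ((S.map ((evaluation ℤᵒᵖ A).obj p)).exact_iff_isZero_homology.1 (hS p.unop)).of_iso
    (S.mapHomologyIso ((evaluation ℤᵒᵖ A).obj p)).symm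

/-- graded monomorphism means strict monomorphism -/
lemma mono_gr_of_strict {F G : ℤᵒᵖ ⥤ A} (φ : F ⟶ G) [Mono φ] (hφ : Strict φ) (p : ℤ) : Mono ((gr A p).map φ) := by
  let S := ShortComplex.mk (0 : F ⟶ F) φ zero_comp
  have hS : S.Exact := S.exact_iff_mono rfl |>.2 inferInstance
  exact ((S.map (gr A p)).exact_iff_mono ((gr A p).map_zero _ _)).1 (gr_exact_of_strict S hφ (exact_app S hS) p)

lemma strict_of_mono_gr {F G : ℤᵒᵖ ⥤ A} (φ : F ⟶ G) (hF : ∃ b : ℤ, ∀ p, b ≤ p → IsZero (F.obj (op p))) (hG : Mn G)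
    (h : ∀ p : ℤ, Mono ((gr A p).map φ)) : Mono φ ∧ Strict φ := by
  let S := ShortComplex.mk (0 : F ⟶ F) φ zero_comp
  have hS : ∀ p : ℤ, (S.map (gr A p)).Exact := fun p =>
    ((S.map (gr A p)).exact_iff_mono ((gr A p).map_zero _ _)).2 (h p)
  refine ⟨?_, strict_of_gr_exact S hG hS⟩
  haveI : ∀ p, Mono (φ.app p) := fun p =>
    ((S.map ((evaluation ℤᵒᵖ A).obj p)).exact_iff_mono rfl).1 (exact_app_of_gr_exact S hG hF hS p.unop)
  exact NatTrans.mono_of_mono_app φ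

/-! ### closure properties of finite filtrations -/

instance : (IsFinFil A).IsClosedUnderIsomorphisms where
  of_iso {F G} e hF := by
    obtain ⟨hm, ⟨b, hb⟩, a, ha⟩ := hF
    refine ⟨fun p q f => ?_, ⟨b, fun p hp => (hb p hp).of_iso (e.app _).symm⟩, a, fun p q f hp => ?_⟩
    · haveI := hm f
      exact (MorphismProperty.monomorphisms A).arrow_mk_iso_iff (Arrow.isoMk (e.app p) (e.app q) (e.hom.naturality f).symm) |>.1 this
    · haveI := ha f hp
      exact (MorphismProperty.isomorphisms A).arrow_mk_iso_iff (Arrow.isoMk (e.app p) (e.app q) (e.hom.naturality f).symm) |>.1 this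

lemma fin_X₁ (S : ShortComplex (ℤᵒᵖ ⥤ A)) (hS : S.Exact) [Mono S.f] (h₂ : IsFinFil A S.X₂) (h₃ : Mn S.X₃) :
    IsFinFil A S.X₁ := by
  obtain ⟨hm, ⟨b, hb⟩, a, ha⟩ := h₂
  have mono : ∀ ⦃p q : ℤᵒᵖ⦄ (f : p ⟶ q), Mono (S.X₁.map f) := fun p q f => by
    haveI := hm f
    exact mono_of_mono_fac (h := S.f.app p ≫ S.X₂.map f) (S.f.naturality f)
  refine ⟨mono, ⟨b, fun p hp => IsZero.of_mono (S.f.app (op p)) (hb p hp)⟩, a, fun p q f hp => ?_⟩
  haveI := mono f
  haveI := ha f hp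
  haveI : Epi (S.X₁.map f) := by
    rw [epi_iff_surjective_up_to_refinements]
    intro T x
    have h0 : ((x ≫ S.f.app q) ≫ inv (S.X₂.map f)) ≫ S.g.app p = 0 := by
      haveI := h₃ f
      rw [← cancel_mono (S.X₃.map f), zero_comp, Category.assoc, ← S.g.naturality f, Category.assoc,
        IsIso.inv_hom_id_assoc, Category.assoc, ← NatTrans.comp_app, S.zero, NatTrans.app_zero, comp_zero]
    obtain ⟨T', e, he, y, hy⟩ := (exact_app S hS p.unop).exact_up_to_refinements _ h0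
    refine ⟨T', e, he, y, ?_⟩
    rw [← cancel_mono (S.f.app q), Category.assoc, Category.assoc, S.f.naturality f]
    have := congrArg (· ≫ S.X₂.map f) hy
    simpa using this
  exact isIso_of_mono_of_epi _

lemma fin_X₃ (S : ShortComplex (ℤᵒᵖ ⥤ A)) (hS : S.Exact) [Epi S.g] (h₂ : IsFinFil A S.X₂) (hf : Strict S.f) :
    IsFinFil A S.X₃ := by
  obtain ⟨hm, ⟨b, hb⟩, a, ha⟩ := h₂
  have mono : ∀ ⦃p q : ℤᵒᵖ⦄ (f : p ⟶ q), Mono (S.X₃.map f) := fun p q f => by
    rw [Preadditive.mono_iff_cancel_zero]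
    intro T z hz
    obtain ⟨T₁, e₁, he₁, y, hy⟩ := surjective_up_to_refinements_of_epi (S.g.app p) z
    have h0 : (y ≫ S.X₂.map f) ≫ S.g.app q = 0 := by
      rw [Category.assoc, S.g.naturality f, ← reassoc_of% hy, hz, comp_zero]
    obtain ⟨T₂, e₂, he₂, x, hx⟩ := (exact_app S hS q.unop).exact_up_to_refinements _ h0
    obtain ⟨T₃, e₃, he₃, x', hx'⟩ := hf q.unop p.unop (leOfHom f.unop) T₂ x (e₂ ≫ y)
      (by rw [← map_eq_mp, Category.assoc]; exact hx.symm)
    haveI := he₁; haveI := he₂; haveI := he₃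
    rw [← cancel_epi (e₃ ≫ e₂ ≫ e₁), comp_zero, Category.assoc, Category.assoc, hy, reassoc_of% hx',
      ← NatTrans.comp_app, S.zero]
    simp
  refine ⟨mono, ⟨b, fun p hp => IsZero.of_epi (S.g.app (op p)) (hb p hp)⟩, a, fun p q f hp => ?_⟩
  haveI := mono f
  haveI := ha f hp
  haveI : Epi (S.X₃.map f) := epi_of_epi_fac (h := S.X₂.map f ≫ S.g.app q) (S.g.naturality f).symm
  exact isIso_of_mono_of_epi _

lemma fin_biprod {F G : ℤᵒᵖ ⥤ A} (hF : IsFinFil A F) (hG : IsFinFil A G) : IsFinFil A (F ⊞ G) := by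
  obtain ⟨hm, ⟨b, hb⟩, a, ha⟩ := hF
  obtain ⟨hm', ⟨b', hb'⟩, a', ha'⟩ := hG
  have tot : ∀ p, (biprod.fst : F ⊞ G ⟶ F).app p ≫ (biprod.inl : F ⟶ F ⊞ G).app p +
      (biprod.snd : F ⊞ G ⟶ G).app p ≫ (biprod.inr : G ⟶ F ⊞ G).app p = 𝟙 _ := fun p => by
    rw [← NatTrans.comp_app, ← NatTrans.comp_app, ← NatTrans.app_add, biprod.total, NatTrans.id_app]
  have mono : ∀ ⦃p q : ℤᵒᵖ⦄ (f : p ⟶ q), Mono ((F ⊞ G).map f) := fun p q f => by
    rw [Preadditive.mono_iff_cancel_zero]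
    intro T z hz
    haveI := hm f; haveI := hm' f
    have h1 : z ≫ (biprod.fst : F ⊞ G ⟶ F).app p = 0 := by
      rw [← cancel_mono (F.map f), Category.assoc, ← NatTrans.naturality, reassoc_of% hz, zero_comp, zero_comp]
    have h2 : z ≫ (biprod.snd : F ⊞ G ⟶ G).app p = 0 := by
      rw [← cancel_mono (G.map f), Category.assoc, ← NatTrans.naturality, reassoc_of% hz, zero_comp, zero_comp]
    rw [← Category.comp_id z, ← tot p, Preadditive.comp_add, reassoc_of% h1, reassoc_of% h2]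
    simp
  refine ⟨mono, ⟨max b b', fun p hp => ?_⟩, min a a', fun p q f hp => ?_⟩
  · rw [IsZero.iff_id_eq_zero, ← tot, (hb p (le_of_max_le_left hp)).eq_of_tgt ((biprod.fst : F ⊞ G ⟶ F).app _) 0,
      (hb' p (le_of_max_le_right hp)).eq_of_tgt ((biprod.snd : F ⊞ G ⟶ G).app _) 0]
    simp
  · haveI := mono f
    haveI := ha f (hp.trans (min_le_left _ _))
    haveI := ha' f (hp.trans (min_le_right _ _))
    haveI : Epi ((F ⊞ G).map f) := by
      rw [Preadditive.epi_iff_cancel_zero]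
      intro T z hz
      have h1 : (biprod.inl : F ⟶ F ⊞ G).app q ≫ z = 0 := by
        rw [← cancel_epi (F.map f), comp_zero, ← Category.assoc, NatTrans.naturality, Category.assoc, hz, comp_zero]
      have h2 : (biprod.inr : G ⟶ F ⊞ G).app q ≫ z = 0 := by
        rw [← cancel_epi (G.map f), comp_zero, ← Category.assoc, NatTrans.naturality, Category.assoc, hz, comp_zero]
      rw [← Category.id_comp z, ← tot q, Preadditive.add_comp, Category.assoc, Category.assoc, h1, h2]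
      simp
    exact isIso_of_mono_of_epi _

instance : (IsFinFil A).IsClosedUnderBinaryProducts where
  limitsOfShape_le := by
    rintro X ⟨p⟩
    exact (IsFinFil A).prop_of_iso
      ((biprod.isoProd _ _) ≪≫ (HasLimit.isoOfNatIso (diagramIsoPair p.diag)).symm ≪≫
        (limit.isLimit _).conePointUniqueUpToIso p.isLimit)
      (fin_biprod (p.prop_diag_obj ⟨WalkingPair.left⟩) (p.prop_diag_obj ⟨WalkingPair.right⟩))

instance : HasBinaryBiproducts (FilF A) := HasBinaryBiproducts.of_hasBinaryProducts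

lemma mono_hom {F G : FilF A} (φ : F ⟶ G) [Mono φ] : Mono φ.hom := by
  have hK := fin_X₁ (ShortComplex.mk (kernel.ι φ.hom) φ.hom (kernel.condition _))
    (ShortComplex.exact_of_f_is_kernel _ (kernelIsKernel _)) F.property G.property.1
  let K : FilF A := ⟨kernel φ.hom, hK⟩
  let i : K ⟶ F := ObjectProperty.homMk (kernel.ι φ.hom)
  have h : i ≫ φ = 0 ≫ φ := by
    rw [zero_comp]; ext1; exact kernel.condition φ.hom
  exact Preadditive.mono_of_kernel_zero (congrArg InducedCategory.Hom.hom ((cancel_mono φ).1 h))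

lemma mono_of_hom {F G : FilF A} (φ : F ⟶ G) [Mono φ.hom] : Mono φ :=
  (IsFinFil A).ι.mono_of_mono_map (inferInstanceAs (Mono φ.hom))

end Groth.Agent.H7.Fil
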