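import Groth.Agent.H7.Fil.Inj
import Groth.Agent.H7.PC.Glue

/-! Filtered complexes seen as complexes of functors. -/

set_option backward.isDefEq.respectTransparency false
set_option linter.unusedSectionVars false

universe v u

open CategoryTheory CategoryTheory.Limits Opposite ZeroObject FilD HomologicalComplex

namespace Groth.Agent.H7.Fil

variable {A : Type u} [Category.{v} A] [Abelian A]

open CochainComplex (mappingCone)

/-- forget the finiteness of the filtrations -/
noncomputable abbrev toFun : CochainComplex (FilF A) ℤ ⥤ CochainComplex (ℤᵒᵖ ⥤ A) ℤ :=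
  (IsFinFil A).ι.mapHomologicalComplex (ComplexShape.up ℤ)

lemma mn_X (K : CochainComplex (FilF A) ℤ) (n : ℤ) : Mn ((toFun.obj K).X n) := (K.X n).property.1

/-- graded exactness gives exactness as functors -/
lemma exactAt_of_gr (K : CochainComplex (FilF A) ℤ) (n : ℤ) (h : ∀ p, ((grCx p).obj K).ExactAt n) :
    (toFun.obj K).ExactAt n := by
  rw [exactAt_iff' _ (n - 1) n (n + 1) (by simp) (by simp)]
  refine exact_of_app _ (exact_app_of_gr_exact _ (mn_X K (n + 1)) (K.X n).property.2.1 fun p => ?_)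
  have := h p
  rw [exactAt_iff' _ (n - 1) n (n + 1) (by simp) (by simp)] at this
  exact this

lemma strict_d_of_gr (K : CochainComplex (FilF A) ℤ) (n : ℤ) (h : ∀ p, ((grCx p).obj K).ExactAt n) :
    Strict ((toFun.obj K).d n (n + 1)) := by
  refine strict_of_gr_exact ((toFun.obj K).sc' (n - 1) n (n + 1)) (mn_X K (n + 1)) fun p => ?_
  have := h p
  rw [exactAt_iff' _ (n - 1) n (n + 1) (by simp) (by simp)] at this
  exact this

lemma gr_exactAt_of_exactAt (K : CochainComplex (FilF A) ℤ) (n : ℤ) (h : (toFun.obj K).ExactAt n)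
    (h' : (toFun.obj K).ExactAt (n + 1)) (p : ℤ) : ((grCx p).obj K).ExactAt n := by
  rw [exactAt_iff' _ (n - 1) n (n + 1) (by simp) (by simp)] at h ⊢
  rw [exactAt_iff' _ n (n + 1) (n + 1 + 1) (by simp) (by simp)] at h'
  exact gr_exact_of_strict ((toFun.obj K).sc' (n - 1) n (n + 1))
    (strict_f_of_exact ((toFun.obj K).sc' n (n + 1) (n + 1 + 1)) (mn_X K _) (exact_app _ h')) (exact_app _ h) p

lemma acyclic_iff (K : CochainComplex (FilF A) ℤ) :
    IsFilteredAcyclic K ↔ ∀ n, (toFun.obj K).ExactAt n :=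
  ⟨fun h n => exactAt_of_gr K n (fun p => h p n), fun h p n => gr_exactAt_of_exactAt K n (h n) (h (n + 1)) p⟩

lemma exactAt_iso {B : Type*} [Category B] [Abelian B] {K L : CochainComplex B ℤ} (e : K ≅ L) (n : ℤ) :
    K.ExactAt n ↔ L.ExactAt n := by
  rw [exactAt_iff_isZero_homology, exactAt_iff_isZero_homology]
  exact ((HomologicalComplex.homologyFunctor B (ComplexShape.up ℤ) n).mapIso e).isZero_iff

lemma qis_iff_cone {B : Type*} [Category B] [Abelian B] {K L : CochainComplex B ℤ} (φ : K ⟶ L) :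
    QuasiIso φ ↔ ∀ n, (mappingCone φ).ExactAt n :=
  (Groth.Agent.H7.PC.nq_quasiIso_iff φ).trans ⟨fun h n => h n n le_rfl, fun h _ n _ => h n⟩

lemma qis_iff_acyclic_cone {K L : CochainComplex (FilF A) ℤ} (φ : K ⟶ L) :
    IsFilteredQuasiIso φ ↔ IsFilteredAcyclic (mappingCone φ) := by
  refine forall_congr' fun p => ?_
  rw [qis_iff_cone]
  exact forall_congr' fun n => (exactAt_iso (CochainComplex.mappingCone.mapHomologicalComplexIso φ (grF A p)) n).symm

lemma qis_iff {K L : CochainComplex (FilF A) ℤ} (φ : K ⟶ L) :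
    IsFilteredQuasiIso φ ↔ QuasiIso (toFun.map φ) := by
  rw [qis_iff_acyclic_cone, acyclic_iff, qis_iff_cone]
  exact forall_congr' fun n => exactAt_iso (CochainComplex.mappingCone.mapHomologicalComplexIso φ (IsFinFil A).ι) n

/-- a complex of finitely filtered functors -/
noncomputable def ofFun (K : CochainComplex (ℤᵒᵖ ⥤ A) ℤ) (h : ∀ n, IsFinFil A (K.X n)) :
    CochainComplex (FilF A) ℤ where
  X n := ⟨K.X n, h n⟩
  d i j := ObjectProperty.homMk (K.d i j)
  shape i j hij := by ext1; exact K.shape i j hij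
  d_comp_d' i j k _ _ := by ext1; exact K.d_comp_d i j k

lemma isStrictlyGE_ofFun (K : CochainComplex (ℤᵒᵖ ⥤ A) ℤ) (h : ∀ n, IsFinFil A (K.X n)) (a : ℤ)
    (hK : ∀ n, n < a → IsZero (K.X n)) : (ofFun K h).IsStrictlyGE a := by
  rw [CochainComplex.isStrictlyGE_iff]
  intro n hn
  exact (IsZero.iff_id_eq_zero _).2 (by ext1; exact (hK n hn).eq_of_src _ _)

lemma isStrictlyLE_ofFun (K : CochainComplex (ℤᵒᵖ ⥤ A) ℤ) (h : ∀ n, IsFinFil A (K.X n)) (a : ℤ)
    (hK : ∀ n, a < n → IsZero (K.X n)) : (ofFun K h).IsStrictlyLE a := by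
  rw [CochainComplex.isStrictlyLE_iff]
  intro n hn
  exact (IsZero.iff_id_eq_zero _).2 (by ext1; exact (hK n hn).eq_of_src _ _)

/-- a map to a lifted complex -/
noncomputable def liftTo {K : CochainComplex (FilF A) ℤ} {L : CochainComplex (ℤᵒᵖ ⥤ A) ℤ}
    (h : ∀ n, IsFinFil A (L.X n)) (π : toFun.obj K ⟶ L) : K ⟶ ofFun L h where
  f n := ObjectProperty.homMk (π.f n)
  comm' i j _ := by ext1; exact π.comm i j

/-- a map from a lifted complex -/
noncomputable def liftFrom {K : CochainComplex (FilF A) ℤ} {L : CochainComplex (ℤᵒᵖ ⥤ A) ℤ}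
    (h : ∀ n, IsFinFil A (L.X n)) (π : L ⟶ toFun.obj K) : ofFun L h ⟶ K where
  f n := ObjectProperty.homMk (π.f n)
  comm' i j _ := by ext1; exact π.comm i j

lemma qis_liftTo {K : CochainComplex (FilF A) ℤ} {L : CochainComplex (ℤᵒᵖ ⥤ A) ℤ}
    (h : ∀ n, IsFinFil A (L.X n)) (π : toFun.obj K ⟶ L) [hπ : QuasiIso π] : IsFilteredQuasiIso (liftTo h π) :=
  (qis_iff _).2 hπ

lemma qis_liftFrom {K : CochainComplex (FilF A) ℤ} {L : CochainComplex (ℤᵒᵖ ⥤ A) ℤ}
    (h : ∀ n, IsFinFil A (L.X n)) (π : L ⟶ toFun.obj K) [hπ : QuasiIso π] : IsFilteredQuasiIso (liftFrom h π) :=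
  (qis_iff _).2 hπ

lemma exists_truncGE (K : CochainComplex (FilF A) ℤ) (a : ℤ)
    (hK : ∀ (p n : ℤ), n < a → IsZero (((grCx p).obj K).homology n)) :
    ∃ (L : CochainComplex (FilF A) ℤ) (φ : K ⟶ L), L.IsStrictlyGE a ∧ IsFilteredQuasiIso φ := by
  have hgr : ∀ p n, n < a → ((grCx p).obj K).ExactAt n := fun p n hn =>
    (exactAt_iff_isZero_homology _ n).2 (hK p n hn)
  let M := toFun.obj K
  haveI : M.IsGE a := (CochainComplex.isGE_iff M a).2 fun n hn => exactAt_of_gr K n (fun p => hgr p n hn)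
  have hfin : ∀ n, IsFinFil A ((M.truncGE a).X n) := fun n => by
    rcases lt_trichotomy a n with h | rfl | h
    · exact (IsFinFil A).prop_of_iso (M.truncGEXIso a n h).symm (K.X n).property
    · refine (IsFinFil A).prop_of_iso (M.truncGEXIsoOpcycles a).symm ?_
      have hd := strict_d_of_gr K (a - 1) fun p => hgr p (a - 1) (by omega)
      rw [sub_add_cancel] at hd
      exact fin_X₃ (ShortComplex.mk (M.d (a - 1) a) (M.pOpcycles a) (M.d_pOpcycles _ _))
        (ShortComplex.exact_of_g_is_cokernel _ (M.opcyclesIsCokernel (a - 1) a (by simp))) (K.X a).property hd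
    · exact (IsFinFil A).prop_of_isZero ((M.truncGE a).isZero_of_isStrictlyGE a n h)
  exact ⟨ofFun (M.truncGE a) hfin, liftTo hfin (M.πTruncGE a),
    isStrictlyGE_ofFun _ _ a (fun n hn => (M.truncGE a).isZero_of_isStrictlyGE a n hn), qis_liftTo _ _⟩

lemma exists_truncLE (K : CochainComplex (FilF A) ℤ) (b : ℤ)
    (hK : ∀ (p n : ℤ), b < n → IsZero (((grCx p).obj K).homology n)) :
    ∃ (M : CochainComplex (FilF A) ℤ) (φ : M ⟶ K), M.IsStrictlyLE b ∧ IsFilteredQuasiIso φ := by
  let N := toFun.obj K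
  haveI : N.IsLE b := (CochainComplex.isLE_iff N b).2 fun n hn =>
    exactAt_of_gr K n (fun p => (exactAt_iff_isZero_homology _ n).2 (hK p n hn))
  have hfin : ∀ n, IsFinFil A ((N.truncLE b).X n) := fun n => by
    rcases lt_trichotomy n b with h | rfl | h
    · exact (IsFinFil A).prop_of_iso (N.truncLEXIso b n h).symm (K.X n).property
    · refine (IsFinFil A).prop_of_iso (N.truncLEXIsoCycles n).symm ?_
      exact fin_X₁ (ShortComplex.mk (N.iCycles n) (N.d n (n + 1)) (N.iCycles_d _ _))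
        (ShortComplex.exact_of_f_is_kernel _ (N.cyclesIsKernel n (n + 1) (by simp))) (K.X n).property (mn_X K _)
    · exact (IsFinFil A).prop_of_isZero ((N.truncLE b).isZero_of_isStrictlyLE b n h)
  exact ⟨ofFun (N.truncLE b) hfin, liftFrom hfin (N.ιTruncLE b),
    isStrictlyLE_ofFun _ _ b (fun n hn => (N.truncLE b).isZero_of_isStrictlyLE b n hn), qis_liftFrom _ _⟩

/-! ### one step of the injective resolution -/

/-- cokernel of `(f, v)` with `v` a strict monomorphism -/
lemma coker_lift {S X W T Q : ℤᵒᵖ ⥤ A} (L : S ⟶ W) (π : W ⟶ Q) (w : L ≫ π = 0)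
    (hex : (ShortComplex.mk L π w).Exact) [Epi π] (i₁ : X ⟶ W) (p₁ : W ⟶ X) (p₂ : W ⟶ T)
    (h₁₁ : i₁ ≫ p₁ = 𝟙 X) (h₁₂ : i₁ ≫ p₂ = 0) (hS : IsFinFil A S) (hX : IsFinFil A X) (hW : IsFinFil A W)
    (hv : ∀ p, Mono ((gr A p).map (L ≫ p₂))) :
    IsFinFil A Q ∧ ∀ p, Mono ((gr A p).map (i₁ ≫ π)) := by
  have hL : ∀ p, Mono ((gr A p).map L) := fun p => by
    haveI := hv p
    haveI : Mono ((gr A p).map L ≫ (gr A p).map p₂) := by rw [← Functor.map_comp]; infer_instance
    exact mono_of_mono _ ((gr A p).map p₂)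
  have hs := (strict_of_mono_gr L hS.2.1 hW.1 hL).2
  refine ⟨fin_X₃ (ShortComplex.mk L π w) hex hW hs, fun p => ?_⟩
  have hgr := gr_exact_of_strict (ShortComplex.mk L π w) (strict_of_epi π) (exact_app _ hex) p
  rw [Preadditive.mono_iff_cancel_zero]
  intro Z x hx
  rw [Functor.map_comp, ← Category.assoc] at hx
  obtain ⟨Z', e, he, s, hs'⟩ := hgr.exact_up_to_refinements (x ≫ (gr A p).map i₁) hx
  haveI := hv p
  change e ≫ x ≫ (gr A p).map i₁ = s ≫ (gr A p).map L at hs'
  have h0 : s = 0 := by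
    rw [← cancel_mono ((gr A p).map (L ≫ p₂)), zero_comp, Functor.map_comp, ← reassoc_of% hs', ← Functor.map_comp,
      h₁₂, Functor.map_zero, comp_zero, comp_zero]
  rw [h0, zero_comp] at hs'
  have := congrArg (· ≫ (gr A p).map p₁) hs'
  simp only [Category.assoc, ← Functor.map_comp, h₁₁, zero_comp, Functor.map_id, Category.comp_id] at this
  have hxe := this
  haveI := he
  rw [← cancel_epi e, comp_zero]
  simpa using hxe

/-- the two-term acyclic complex `X → X` in degrees `a, a + 1` -/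
noncomputable abbrev disk (X : ℤᵒᵖ ⥤ A) (a : ℤ) : CochainComplex (ℤᵒᵖ ⥤ A) ℤ :=
  mappingCone (𝟙 ((CochainComplex.singleFunctor (ℤᵒᵖ ⥤ A) (a + 1)).obj X))

lemma disk_exact (X : ℤᵒᵖ ⥤ A) (a i : ℤ) : (disk X a).ExactAt i :=
  (qis_iff_cone _).1 inferInstance i

lemma disk_isZero (X : ℤᵒᵖ ⥤ A) (a i : ℤ) (h : i ≠ a) (h' : i ≠ a + 1) : IsZero ((disk X a).X i) :=
  (IsZero.iff_id_eq_zero _).2 (CochainComplex.mappingCone.ext_from _ (i + 1) i rfl
    ((isZero_single_obj_X _ _ _ _ (by omega)).eq_of_src _ _) ((isZero_single_obj_X _ _ _ _ h').eq_of_src _ _))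

lemma isIso_fst (X : ℤᵒᵖ ⥤ A) (a : ℤ) :
    IsIso ((CochainComplex.mappingCone.fst (𝟙 ((CochainComplex.singleFunctor (ℤᵒᵖ ⥤ A) (a + 1)).obj X))).1.v a (a + 1) rfl) :=
  ⟨(CochainComplex.mappingCone.inl _).v (a + 1) a (by omega),
    CochainComplex.mappingCone.ext_from _ (a + 1) a rfl (by simp)
      ((isZero_single_obj_X (ComplexShape.up ℤ) (a + 1) X a (by omega)).eq_of_src _ _),
    CochainComplex.mappingCone.inl_v_fst_v _ (a + 1) a (by omega)⟩

/-- functoriality of disks -/
noncomputable abbrev diskMap {X Y : ℤᵒᵖ ⥤ A} (u : X ⟶ Y) (a : ℤ) : disk X a ⟶ disk Y a :=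
  CochainComplex.mappingCone.map _ _ ((CochainComplex.singleFunctor (ℤᵒᵖ ⥤ A) (a + 1)).map u)
    ((CochainComplex.singleFunctor (ℤᵒᵖ ⥤ A) (a + 1)).map u) (by rw [Category.id_comp, Category.comp_id])

lemma mono_gr_diskMap {X Y : ℤᵒᵖ ⥤ A} (u : X ⟶ Y) (a : ℤ) (hu : ∀ p, Mono ((gr A p).map u)) (i p : ℤ) :
    Mono ((gr A p).map ((diskMap u a).f i)) := by
  haveI := hu p
  let σ := (CochainComplex.singleFunctor (ℤᵒᵖ ⥤ A) (a + 1)).map u
  have key : Mono ((gr A p).map (σ.f (a + 1))) :=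
    (MorphismProperty.monomorphisms A).arrow_mk_iso_iff
      ((gr A p).mapArrow.mapIso (Arrow.isoMk (f := Arrow.mk (σ.f (a + 1))) (g := Arrow.mk u)
        (singleObjXSelf (ComplexShape.up ℤ) (a + 1) X) (singleObjXSelf (ComplexShape.up ℤ) (a + 1) Y)
        (by
          show (singleObjXSelf (ComplexShape.up ℤ) (a + 1) X).hom ≫ u = σ.f (a + 1) ≫ _
          simp [σ, CochainComplex.singleFunctor, CochainComplex.singleFunctors, HomologicalComplex.single_map_f_self]))) |>.2 (hu p)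
  by_cases hi : i = a
  · subst hi
    haveI := isIso_fst X i; haveI := isIso_fst Y i
    exact ((MorphismProperty.monomorphisms A).arrow_mk_iso_iff
      ((gr A p).mapArrow.mapIso (Arrow.isoMk (f := Arrow.mk ((diskMap u i).f i)) (g := Arrow.mk (σ.f (i + 1)))
        (asIso ((CochainComplex.mappingCone.fst (𝟙 ((CochainComplex.singleFunctor (ℤᵒᵖ ⥤ A) (i + 1)).obj X))).1.v i (i + 1) rfl))
        (asIso ((CochainComplex.mappingCone.fst (𝟙 ((CochainComplex.singleFunctor (ℤᵒᵖ ⥤ A) (i + 1)).obj Y))).1.v i (i + 1) rfl))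
        (by
          apply CochainComplex.mappingCone.ext_from
            (𝟙 ((CochainComplex.singleFunctor (ℤᵒᵖ ⥤ A) (i + 1)).obj X)) (i + 1) i rfl
          · simp [σ, CochainComplex.mappingCone.map]
          · exact (isZero_single_obj_X (ComplexShape.up ℤ) (i + 1) X i (by omega)).eq_of_src _ _)))).2 key
  by_cases hi' : i = a + 1
  · subst hi'
    haveI := Groth.Agent.H7.PC.isIso_inr (𝟙 ((CochainComplex.singleFunctor (ℤᵒᵖ ⥤ A) (a + 1)).obj X)) (a + 1)
      (isZero_single_obj_X _ _ _ _ (by omega))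
    haveI := Groth.Agent.H7.PC.isIso_inr (𝟙 ((CochainComplex.singleFunctor (ℤᵒᵖ ⥤ A) (a + 1)).obj Y)) (a + 1)
      (isZero_single_obj_X _ _ _ _ (by omega))
    exact ((MorphismProperty.monomorphisms A).arrow_mk_iso_iff
      ((gr A p).mapArrow.mapIso (Arrow.isoMk (f := Arrow.mk (σ.f (a + 1))) (g := Arrow.mk ((diskMap u a).f (a + 1)))
        (asIso ((CochainComplex.mappingCone.inr (𝟙 ((CochainComplex.singleFunctor (ℤᵒᵖ ⥤ A) (a + 1)).obj X))).f (a + 1)))
        (asIso ((CochainComplex.mappingCone.inr (𝟙 ((CochainComplex.singleFunctor (ℤᵒᵖ ⥤ A) (a + 1)).obj Y))).f (a + 1)))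
        (by simp [σ, CochainComplex.mappingCone.map])))).1 key
  exact ⟨fun x y _ => ((gr A p).map_isZero (disk_isZero X a i hi hi')).eq_of_tgt x y⟩

lemma exists_resStep [EnoughInjectives A] (K : CochainComplex (ℤᵒᵖ ⥤ A) ℤ) (hK : ∀ i, IsFinFil A (K.X i)) (a : ℤ) :
    ∃ (K' : CochainComplex (ℤᵒᵖ ⥤ A) ℤ) (φ : K ⟶ K'), (∀ i, IsFinFil A (K'.X i)) ∧
      (∀ p, Injective ((gr A p).obj (K'.X a))) ∧ QuasiIso φ ∧ (∀ i p, Mono ((gr A p).map (φ.f i))) ∧
      ∀ i, i ≠ a → i ≠ a + 1 → IsIso (φ.f i) := by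
  obtain ⟨J, u, hJ, hinj, hum, -, hu⟩ := exists_embedding (hK a)
  let α := CochainComplex.HomComplex.Cochain.fromSingleMk (K := K) (𝟙 (K.X a)) (show a + 1 + -1 = a by omega)
  let β : (CochainComplex.singleFunctor (ℤᵒᵖ ⥤ A) (a + 1)).obj (K.X a) ⟶ K :=
    mkHomFromSingle (K.d a (a + 1)) (fun k hk => K.d_comp_d _ _ _)
  have hαβ : CochainComplex.HomComplex.δ (-1) 0 α = CochainComplex.HomComplex.Cochain.ofHom (𝟙 _ ≫ β) := by
    rw [Category.id_comp, CochainComplex.HomComplex.Cochain.δ_fromSingleMk _ _ 0 (a + 1) (add_zero _)]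
    apply (CochainComplex.HomComplex.Cochain.fromSingleEquiv (C := ℤᵒᵖ ⥤ A) (add_zero (a + 1))).injective
    rw [CochainComplex.HomComplex.Cochain.fromSingleEquiv_fromSingleMk]
    simp [CochainComplex.HomComplex.Cochain.fromSingleEquiv, β]
  let t : disk (K.X a) a ⟶ K := CochainComplex.mappingCone.desc _ α β hαβ
  let v := diskMap u a
  let L := biprod.lift t v
  let S := ShortComplex.mk L (cokernel.π L) (cokernel.condition L)
  have hSe : S.Exact := ShortComplex.exact_of_g_is_cokernel _ (cokernelIsCokernel _)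
  let ev := fun i => HomologicalComplex.eval (ℤᵒᵖ ⥤ A) (ComplexShape.up ℤ) i
  have hfin : ∀ (X : ℤᵒᵖ ⥤ A), IsFinFil A X → ∀ i, IsFinFil A ((disk X a).X i) := fun X hX i =>
    (IsFinFil A).prop_of_iso (homotopyCofiber.XIsoBiprod (𝟙 ((CochainComplex.singleFunctor (ℤᵒᵖ ⥤ A) (a + 1)).obj X)) i (i + 1) rfl).symm
      (fin_biprod (Groth.Agent.H7.PC.P_single (IsFinFil A) hX _ _) (Groth.Agent.H7.PC.P_single (IsFinFil A) hX _ _))
  have hW : ∀ i, IsFinFil A ((K ⊞ disk J a).X i) := fun i => by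
    haveI := preservesBinaryBiproducts_of_preservesBiproducts (ev i)
    exact (IsFinFil A).prop_of_iso ((ev i).mapBiprod K (disk J a)).symm (fin_biprod (hK i) (hfin J hJ i))
  have hv : ∀ i p, Mono ((gr A p).map (L.f i ≫ (biprod.snd : K ⊞ disk J a ⟶ _).f i)) := fun i p => by
    rw [← comp_f, biprod.lift_snd]; exact mono_gr_diskMap u a hu i p
  have key' : ∀ i, IsFinFil A ((cokernel L).X i) ∧
      ∀ p, Mono ((gr A p).map ((biprod.inl : K ⟶ K ⊞ disk J a).f i ≫ (cokernel.π L).f i)) := fun i =>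
    coker_lift (L.f i) ((cokernel.π L).f i) (by rw [← comp_f, cokernel.condition, zero_f])
      (hSe.map (ev i)) ((biprod.inl : K ⟶ K ⊞ disk J a).f i) ((biprod.fst : K ⊞ disk J a ⟶ _).f i)
      ((biprod.snd : K ⊞ disk J a ⟶ _).f i) (by rw [← comp_f, biprod.inl_fst, id_f])
      (by rw [← comp_f, biprod.inl_snd, zero_f]) (hfin _ (hK a) i) (hK i) (hW i) (hv i)
  haveI hvm : ∀ i, Mono (L.f i ≫ (biprod.snd : K ⊞ disk J a ⟶ _).f i) := fun i =>
    (strict_of_mono_gr _ (hfin _ (hK a) i).2.1 (hfin J hJ i).1 (hv i)).1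
  haveI : ∀ i, Mono (L.f i) := fun i => mono_of_mono (L.f i) ((biprod.snd : K ⊞ disk J a ⟶ _).f i)
  haveI : Mono L := HomologicalComplex.mono_of_mono_f L inferInstance
  have hS : S.ShortExact := { exact := hSe }
  refine ⟨cokernel L, biprod.inl ≫ cokernel.π L, fun i => (key' i).1, fun p => ?_, ?_, fun i p => ?_,
    fun i h h' => ?_⟩
  · let ψ := (biprod.inr : disk J a ⟶ K ⊞ disk J a).f a ≫ (cokernel.π L).f a
    haveI : IsIso (t.f a) := by
      haveI := isIso_fst (K.X a) a
      have : t.f a = (CochainComplex.mappingCone.fst (𝟙 ((CochainComplex.singleFunctor (ℤᵒᵖ ⥤ A) (a + 1)).obj (K.X a)))).1.v a (a + 1) rfl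
          ≫ α.v (a + 1) a (by omega) := by
        apply CochainComplex.mappingCone.ext_from _ (a + 1) a rfl
        · simp [t]
        · exact (isZero_single_obj_X (ComplexShape.up ℤ) (a + 1) (K.X a) a (by omega)).eq_of_src _ _
      rw [this, show α.v (a + 1) a (by omega) = (singleObjXSelf (ComplexShape.up ℤ) (a + 1) (K.X a)).hom by simp [α]]
      infer_instance
    haveI : Mono ψ := by
      rw [Preadditive.mono_iff_cancel_zero]
      intro Z x hx
      obtain ⟨Z', e, he, s, hs⟩ := (hSe.map (ev a)).exact_up_to_refinements (x ≫ (biprod.inr : disk J a ⟶ K ⊞ disk J a).f a)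
        (by rw [Category.assoc]; exact hx)
      change e ≫ x ≫ _ = s ≫ L.f a at hs
      have h0 : s = 0 := by
        have := congrArg (· ≫ (biprod.fst : K ⊞ disk J a ⟶ _).f a) hs
        simp only [Category.assoc, ← comp_f, biprod.inr_fst, zero_f, comp_zero, L, biprod.lift_fst] at this
        rw [← cancel_mono (t.f a), zero_comp]; exact this.symm
      rw [h0, zero_comp] at hs
      have := congrArg (· ≫ (biprod.snd : K ⊞ disk J a ⟶ _).f a) hs
      simp only [Category.assoc, ← comp_f, biprod.inr_snd, id_f, zero_comp] at this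
      have hxe := this
      haveI := he
      rw [← cancel_epi e, comp_zero]
      simpa using hxe
    haveI : Epi ψ := by
      rw [Preadditive.epi_iff_cancel_zero]
      intro Z g hg
      haveI : Epi ((cokernel.π L).f a) := (inferInstance : Epi ((ev a).map (cokernel.π L)))
      rw [← cancel_epi ((cokernel.π L).f a), comp_zero]
      rw [Category.assoc] at hg
      have h1 : L.f a ≫ (cokernel.π L).f a ≫ g = 0 := by
        rw [← Category.assoc, ← comp_f, cokernel.condition, zero_f, zero_comp]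
      have hLeq : L = t ≫ biprod.inl + v ≫ biprod.inr := biprod.lift_eq
      have hLf : L.f a = t.f a ≫ (biprod.inl : K ⟶ K ⊞ disk J a).f a + v.f a ≫ (biprod.inr : disk J a ⟶ K ⊞ disk J a).f a := by
        rw [← comp_f, ← comp_f, ← add_f_apply]; exact congrArg (fun (φ : disk (K.X a) a ⟶ K ⊞ disk J a) => φ.f a) hLeq
      rw [hLf, Preadditive.add_comp, Category.assoc, Category.assoc, hg, comp_zero,
        add_zero, ← comp_zero (f := t.f a), cancel_epi] at h1
      rw [← Category.id_comp ((cokernel.π L).f a ≫ g), ← id_f, ← biprod.total, add_f_apply, comp_f, comp_f,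
        Preadditive.add_comp, Category.assoc, Category.assoc, h1, hg]
      simp
    haveI : IsIso ψ := isIso_of_mono_of_epi _
    haveI := isIso_fst J a
    exact Injective.of_iso ((gr A p).mapIso ((singleObjXSelf (ComplexShape.up ℤ) (a + 1) J).symm ≪≫
      (asIso ((CochainComplex.mappingCone.fst (𝟙 ((CochainComplex.singleFunctor (ℤᵒᵖ ⥤ A) (a + 1)).obj J))).1.v a (a + 1) rfl)).symm ≪≫
      asIso ψ)) (hinj p)
  · haveI : QuasiIso (cokernel.π L) := by
      rw [quasiIso_iff]
      intro i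
      rw [quasiIsoAt_iff_isIso_homologyMap]
      haveI : Mono (homologyMap (cokernel.π L) i) :=
        (hS.homology_exact₂ i).mono_g (((disk_exact (K.X a) a i).isZero_homology).eq_of_src _ _)
      haveI : Epi (homologyMap (cokernel.π L) i) :=
        (hS.homology_exact₃ i (i + 1) (by simp)).epi_f (((disk_exact (K.X a) a (i + 1)).isZero_homology).eq_of_tgt _ _)
      exact isIso_of_mono_of_epi _
    haveI : QuasiIso (biprod.inl : K ⟶ K ⊞ disk J a) := by
      rw [quasiIso_iff]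
      intro i
      rw [quasiIsoAt_iff_isIso_homologyMap]
      refine ⟨homologyMap biprod.fst i, by rw [← homologyMap_comp, biprod.inl_fst, homologyMap_id], ?_⟩
      rw [← homologyMap_id, ← biprod.total, homologyMap_add, homologyMap_comp, homologyMap_comp,
        ((disk_exact J a i).isZero_homology).eq_of_tgt (homologyMap biprod.snd i) 0, zero_comp, add_zero]
    exact quasiIso_comp _ _
  · exact (key' i).2 p
  · have hz := disk_isZero (K.X a) a i h h'
    haveI : Mono ((cokernel.π L).f i) := (hSe.map (ev i)).mono_g (hz.eq_of_src _ _)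
    haveI : Epi ((cokernel.π L).f i) := (inferInstance : Epi ((ev i).map (cokernel.π L)))
    haveI : IsIso ((cokernel.π L).f i) := isIso_of_mono_of_epi _
    haveI : IsIso ((biprod.inl : K ⟶ K ⊞ disk J a).f i) := by
      refine ⟨(biprod.fst : K ⊞ disk J a ⟶ _).f i, by rw [← comp_f, biprod.inl_fst, id_f], ?_⟩
      rw [← id_f, ← biprod.total, add_f_apply, comp_f, comp_f,
        (disk_isZero J a i h h').eq_of_tgt ((biprod.snd : K ⊞ disk J a ⟶ _).f i) 0, zero_comp, add_zero]
    rw [comp_f]; infer_instance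

/-! ### the resolution -/

lemma isIso_cone_map {B : Type*} [Category B] [Abelian B] {K L K' L' : CochainComplex B ℤ} (φ : K ⟶ L) (φ' : K' ⟶ L')
    (f : K ⟶ K') (g : L ⟶ L') (h : φ ≫ g = f ≫ φ') (j : ℤ) [IsIso (f.f (j + 1))] [IsIso (g.f j)] :
    IsIso ((CochainComplex.mappingCone.map φ φ' f g h).f j) := by
  refine ⟨(CochainComplex.mappingCone.fst φ').1.v j (j + 1) rfl ≫ inv (f.f (j + 1)) ≫
      (CochainComplex.mappingCone.inl φ).v (j + 1) j (by omega)
    + (CochainComplex.mappingCone.snd φ').v j j (add_zero j) ≫ inv (g.f j) ≫ (CochainComplex.mappingCone.inr φ).f j, ?_, ?_⟩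
  · apply CochainComplex.mappingCone.ext_from φ (j + 1) j rfl
    · simp [CochainComplex.mappingCone.map]
    · simp [CochainComplex.mappingCone.map]
  · apply CochainComplex.mappingCone.ext_from φ' (j + 1) j rfl
    · simp [CochainComplex.mappingCone.map]
    · simp [CochainComplex.mappingCone.map]

/-- a stage of the resolution -/
structure Stage (K : CochainComplex (ℤᵒᵖ ⥤ A) ℤ) (c : ℤ) where
  cx : CochainComplex (ℤᵒᵖ ⥤ A) ℤ
  map : K ⟶ cx
  fin : ∀ i, IsFinFil A (cx.X i)
  inj : ∀ i, i < c → ∀ p, Injective ((gr A p).obj (cx.X i))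
  qis : QuasiIso map
  mono : ∀ i p, Mono ((gr A p).map (map.f i))

lemma exists_resolution [EnoughInjectives A] (K : CochainComplex (ℤᵒᵖ ⥤ A) ℤ) (hK : ∀ i, IsFinFil A (K.X i)) (a : ℤ)
    (ha : ∀ i, i < a → IsZero (K.X i)) :
    ∃ (I : CochainComplex (ℤᵒᵖ ⥤ A) ℤ) (φ : K ⟶ I), (∀ i, IsFinFil A (I.X i)) ∧
      (∀ i p, Injective ((gr A p).obj (I.X i))) ∧ (∀ i, i < a → IsZero (I.X i)) ∧ QuasiIso φ ∧
      ∀ i p, Mono ((gr A p).map (φ.f i)) := by
  have step : ∀ (d : ℕ) (s : Stage K (a + d)), ∃ (t : Stage K (a + (d + 1 : ℕ))) (v : s.cx ⟶ t.cx),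
      s.map ≫ v = t.map ∧ ∀ i, i ≠ a + d → i ≠ a + d + 1 → IsIso (v.f i) := by
    intro d s
    obtain ⟨K', φ, hf, hinj, hq, hm, hiso⟩ := exists_resStep s.cx s.fin (a + d)
    haveI := s.qis; haveI := hq
    refine ⟨⟨K', s.map ≫ φ, hf, fun i hi p => ?_, quasiIso_comp _ _, fun i p => ?_⟩, φ, rfl, hiso⟩
    · by_cases h : i = a + d
      · subst h; exact hinj p
      · haveI := hiso i h (by omega)
        haveI := s.inj i (by omega) p
        exact Injective.of_iso ((gr A p).mapIso (asIso (φ.f i))) inferInstance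
    · rw [comp_f, Functor.map_comp]
      haveI := s.mono i p; haveI := hm i p
      exact mono_comp _ _
  choose t v hv1 hv2 using step
  let s0 : Stage K (a + (0 : ℕ)) :=
    { cx := K, map := 𝟙 K, fin := hK, qis := inferInstance
      inj := fun i hi p => ((gr A p).map_isZero (ha i (by omega))).injective
      mono := fun i p => by rw [id_f, (gr A p).map_id]; infer_instance }
  let seq : ∀ d : ℕ, Stage K (a + d) := fun d => Nat.rec s0 t d
  let f : ∀ d, (seq d).cx ⟶ (seq (d + 1)).cx := fun d => v d (seq d)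
  let D := Functor.ofSequence f
  have hmap : ∀ (k m : ℕ) (hkm : k ≤ m), (seq k).map ≫ D.map (homOfLE hkm) = (seq m).map ∧
      ∀ i, (i < a + k ∨ a + m + 1 ≤ i) → IsIso ((D.map (homOfLE hkm)).f i) := by
    intro k m hkm
    induction m, hkm using Nat.le_induction with
    | base =>
      rw [show D.map (homOfLE (le_refl k)) = 𝟙 _ from D.map_id k]
      exact ⟨Category.comp_id _, fun i _ => by rw [id_f]; infer_instance⟩
    | succ m hkm ih =>
      have e : D.map (homOfLE (hkm.trans (Nat.le_add_right m 1))) = D.map (homOfLE hkm) ≫ f m := by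
        rw [← Functor.ofSequence_map_homOfLE_succ f m, ← D.map_comp, homOfLE_comp]
      rw [e]
      refine ⟨by rw [← Category.assoc]; exact (congrArg (· ≫ f m) ih.1).trans (hv1 m (seq m)), fun i hi => ?_⟩
      haveI := ih.2 i (by omega)
      haveI : IsIso ((f m).f i) := hv2 m (seq m) i (by omega) (by omega)
      rw [comp_f]; infer_instance
  have hconst : ∀ (i : ℤ) (k : ℕ), i < a + k → (D ⋙ eval (ℤᵒᵖ ⥤ A) (ComplexShape.up ℤ) i).IsEventuallyConstantFrom k :=
    fun i k hk m φ => (hmap k m (leOfHom φ)).2 i (Or.inl hk)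
  haveI : ∀ i, HasColimit (D ⋙ eval (ℤᵒᵖ ⥤ A) (ComplexShape.up ℤ) i) := fun i =>
    (hconst i (i - a + 1).toNat (by omega)).hasColimit
  have hisoι : ∀ (i : ℤ) (k : ℕ), i < a + k → IsIso ((colimit.ι D k).f i) := fun i k hk =>
    (hconst i k hk).isIso_ι_of_isColimit' (isColimitOfPreserves (eval (ℤᵒᵖ ⥤ A) (ComplexShape.up ℤ) i) (colimit.isColimit D)) k (𝟙 k)
  let φ : K ⟶ colimit D := colimit.ι D 0
  have hφ : ∀ k, φ = (seq k).map ≫ colimit.ι D k := fun k => by
    have h1 := (hmap 0 k (Nat.zero_le k)).1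
    rw [show (seq 0).map = 𝟙 K from rfl] at h1
    exact (colimit.w D (homOfLE (Nat.zero_le k))).symm.trans
      (congrArg (· ≫ colimit.ι D k) ((Category.id_comp _).symm.trans h1))
  refine ⟨colimit D, φ, fun i => ?_, fun i p => ?_, fun i hi => ?_, ?_, fun i p => ?_⟩
  · haveI := hisoι i (i - a + 1).toNat (by omega)
    exact (IsFinFil A).prop_of_iso (asIso ((colimit.ι D (i - a + 1).toNat).f i)) ((seq _).fin i)
  · haveI := hisoι i (i - a + 1).toNat (by omega)
    haveI : Injective ((gr A p).obj ((D.obj (i - a + 1).toNat).X i)) := (seq _).inj i (by omega) p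
    exact Injective.of_iso ((gr A p).mapIso (asIso ((colimit.ι D (i - a + 1).toNat).f i))) inferInstance
  · haveI := hisoι i 0 (by omega)
    exact (ha i hi).of_iso (asIso ((colimit.ι D 0).f i)).symm
  · rw [qis_iff_cone]
    intro j
    let k : ℕ := (j - a + 3).toNat
    have hk : j + 2 < a + k := by omega
    let M := CochainComplex.mappingCone.map (seq k).map φ (𝟙 K) (colimit.ι D k)
      (by rw [Category.id_comp]; exact (hφ k).symm)
    haveI : ∀ i, IsIso ((𝟙 K : K ⟶ K).f i) := fun i => by rw [id_f]; infer_instance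
    haveI := hisoι (j - 1) k (by omega); haveI := hisoι j k (by omega); haveI := hisoι (j + 1) k (by omega)
    haveI : IsIso (M.f (j - 1)) := isIso_cone_map _ _ _ _ _ _
    haveI : IsIso (M.f j) := isIso_cone_map _ _ _ _ _ _
    haveI : IsIso (M.f (j + 1)) := isIso_cone_map _ _ _ _ _ _
    exact Groth.Agent.H7.PC.exactAt_of_isIso M j ((qis_iff_cone _).1 (seq k).qis j)
  · rw [hφ (i - a + 1).toNat, comp_f, Functor.map_comp]
    haveI := hisoι i (i - a + 1).toNat (by omega)
    haveI := (seq (i - a + 1).toNat).mono i p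
    exact mono_comp _ _

lemma exists_filteredResolution [EnoughInjectives A] (K : CochainComplex (FilF A) ℤ) (a : ℤ) [K.IsStrictlyGE a] :
    ∃ (I : CochainComplex (FilF A) ℤ) (φ : K ⟶ I), I.IsStrictlyGE a ∧ (∀ n, IsFilteredInjective (I.X n)) ∧
      IsFilteredQuasiIso φ ∧ ∀ n, Mono (φ.f n) ∧ IsStrict (φ.f n) := by
  obtain ⟨I, φ, hf, hinj, hz, hq, hm⟩ := exists_resolution (toFun.obj K) (fun i => (K.X i).property) a
    (fun i hi => (IsFinFil A).ι.map_isZero (K.isZero_of_isStrictlyGE a i hi))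
  haveI := hq
  refine ⟨ofFun I hf, liftTo hf φ, isStrictlyGE_ofFun _ _ a hz, fun n p => hinj n p, qis_liftTo _ _, fun n => ?_⟩
  obtain ⟨h1, h2⟩ := strict_of_mono_gr (φ.f n) (K.X n).property.2.1 (hf n).1 (hm n)
  haveI : Mono ((liftTo hf φ).f n).hom := h1
  exact ⟨mono_of_hom _, (strict_iff _).2 h2⟩

end Groth.Agent.H7.Fil
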