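import Groth.Agent.H7.Fil.Cx

/-! Maps into bounded below complexes of filtered injectives. -/

set_option backward.isDefEq.respectTransparency false
set_option linter.unusedSectionVars false

universe v u

open CategoryTheory CategoryTheory.Limits CategoryTheory.Pretriangulated Opposite ZeroObject FilD HomologicalComplex

namespace Groth.Agent.H7.Fil

variable {A : Type u} [Category.{v} A] [Abelian A]

lemma hom_step (K I : CochainComplex (FilF A) ℤ) (hK : IsFilteredAcyclic K) (hI : ∀ n, IsFilteredInjective (I.X n))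
    (φ : K ⟶ I) (l n m : ℤ) (hl : l + 1 = n) (hm : n + 1 = m) (h : K.X n ⟶ I.X l)
    (hP : K.d l n ≫ (φ.f n - h ≫ I.d l n) = 0) :
    ∃ h' : K.X m ⟶ I.X n, φ.f n = K.d n m ≫ h' + h ≫ I.d l n := by
  obtain rfl : l = n - 1 := by omega
  subst hm
  have hac := (acyclic_iff K).1 hK
  have h1 := hac (n + 1)
  rw [exactAt_iff' _ n (n + 1) (n + 1 + 1) (by simp) (by simp)] at h1
  have h0 := hac n
  rw [exactAt_iff' _ (n - 1) n (n + 1) (by simp) (by simp)] at h0
  have hs : Strict (K.d n (n + 1)).hom :=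
    strict_f_of_exact ((toFun.obj K).sc' n (n + 1) (n + 1 + 1)) (mn_X K _) (exact_app _ h1)
  obtain ⟨g, hg⟩ := exists_factor (K.X n).property (K.X (n + 1)).property (I.X n).property (hI n) _ hs
    (φ.f n - h ≫ I.d (n - 1) n).hom (fun p T x hx => by
      obtain ⟨T', e, he, (y : T' ⟶ (K.X (n - 1)).obj.obj (op p)), (hy : e ≫ x = y ≫ (K.d (n - 1) n).hom.app (op p))⟩ :=
        (exact_app _ h0 p).exact_up_to_refinements x hx
      haveI := he
      rw [← cancel_epi e, comp_zero, ← Category.assoc, hy, Category.assoc, ← NatTrans.comp_app]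
      have h2 := congrArg InducedCategory.Hom.hom hP
      change (K.d (n - 1) n).hom ≫ (φ.f n - h ≫ I.d (n - 1) n).hom = 0 at h2
      rw [h2, NatTrans.app_zero, comp_zero])
  refine ⟨ObjectProperty.homMk g, ?_⟩
  have h3 : K.d n (n + 1) ≫ (ObjectProperty.homMk g : K.X (n + 1) ⟶ I.X n) = φ.f n - h ≫ I.d (n - 1) n := by
    ext1; exact hg
  rw [h3, sub_add_cancel]

/-- a stage of the homotopy -/
structure HStage (K I : CochainComplex (FilF A) ℤ) (φ : K ⟶ I) (c : ℤ) where
  H : ∀ p : ℤ, K.X p ⟶ I.X (p - 1)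
  eq : ∀ n j : ℤ, (hnj : n + 1 = j) → n < c → φ.f n = K.d n j ≫ H j ≫ eqToHom (by congr 1; omega) + H n ≫ I.d (n - 1) n
  P : ∀ n : ℤ, n = c → K.d (n - 1) n ≫ (φ.f n - H n ≫ I.d (n - 1) n) = 0

lemma nonempty_homotopy_zero (K I : CochainComplex (FilF A) ℤ) (hK : IsFilteredAcyclic K) (a : ℤ) [I.IsStrictlyGE a]
    (hI : ∀ n, IsFilteredInjective (I.X n)) (φ : K ⟶ I) : Nonempty (Homotopy φ 0) := by
  have hz : ∀ n, n < a → IsZero (I.X n) := fun n hn => I.isZero_of_isStrictlyGE a n hn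
  let s0 : HStage K I φ (a + (0 : ℕ)) :=
    { H := fun _ => 0
      eq := fun n j _ hn => (hz n (by omega)).eq_of_tgt _ _
      P := fun n hn => by
        rw [zero_comp, sub_zero, ← φ.comm, (hz (n - 1) (by omega)).eq_of_tgt (φ.f (n - 1)) 0, zero_comp] }
  have step : ∀ (k : ℕ) (s : HStage K I φ (a + k)), ∃ t : HStage K I φ (a + (k + 1 : ℕ)),
      ∀ p, p ≤ a + k → t.H p = s.H p := by
    intro k s
    set m := a + ((k + 1 : ℕ) : ℤ) with hm
    obtain ⟨h', hh'⟩ := hom_step K I hK hI φ (m - 1 - 1) (m - 1) m (by omega) (by omega) (s.H (m - 1))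
      (s.P (m - 1) (by omega))
    refine ⟨{ H := Function.update s.H m h', eq := fun n j hnj hn => ?_, P := fun n hn => ?_ }, fun p hp => ?_⟩
    · rw [Function.update_of_ne (show n ≠ m by omega)]
      by_cases hn' : n < a + k
      · rw [Function.update_of_ne (show j ≠ m by omega)]
        exact s.eq n j hnj hn'
      · obtain rfl : n = m - 1 := by omega
        obtain rfl : j = m := by omega
        rw [Function.update_self]
        simpa using hh'
    · obtain rfl : n = m := hn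
      rw [Function.update_self]
      have h1 : φ.f (m - 1) ≫ I.d (m - 1) m = K.d (m - 1) m ≫ h' ≫ I.d (m - 1) m := by
        rw [hh', Preadditive.add_comp, Category.assoc, Category.assoc, I.d_comp_d, comp_zero, add_zero]
      rw [Preadditive.comp_sub, ← φ.comm, h1, sub_self]
    · show Function.update s.H m h' p = s.H p
      rw [Function.update_of_ne (show p ≠ m by omega)]
  choose t ht using step
  let seq : ∀ k : ℕ, HStage K I φ (a + k) := fun k => Nat.rec s0 t k
  have stab : ∀ (k k' : ℕ), k ≤ k' → ∀ p, p ≤ a + k → (seq k').H p = (seq k).H p := by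
    intro k k' hk
    induction k', hk using Nat.le_induction with
    | base => exact fun p _ => rfl
    | succ k' hk ih => exact fun p hp => (ht k' (seq k') p (by omega)).trans (ih p hp)
  let G : ∀ p, K.X p ⟶ I.X (p - 1) := fun p => (seq (p - a).toNat).H p
  have hG : ∀ (p : ℤ) (k : ℕ), p ≤ a + k → (seq k).H p = G p := fun p k hp =>
    stab _ k (by omega) p (by omega)
  have heq : ∀ n, φ.f n = K.d n (n + 1) ≫ G (n + 1) ≫ eqToHom (by congr 1; omega) + G n ≫ I.d (n - 1) n := by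
    intro n
    have := (seq (n + 2 - a).toNat).eq n (n + 1) rfl (by omega)
    rwa [hG (n + 1) _ (by omega), hG n _ (by omega)] at this
  refine ⟨{ hom := fun i j => if h : j + 1 = i then G i ≫ eqToHom (by congr 1; omega) else 0,
            zero := fun i j hij => dif_neg hij, comm := fun n => ?_ }⟩
  rw [dNext_eq _ (show (ComplexShape.up ℤ).Rel n (n + 1) from rfl),
    prevD_eq _ (show (ComplexShape.up ℤ).Rel (n - 1) n by simp), zero_f, add_zero,
    dif_pos rfl, dif_pos (sub_add_cancel n 1)]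
  simpa using heq n

lemma ofShift_isFilteredInjective {I : CochainComplex (FilF A) ℤ} (hI : ∀ n, IsFilteredInjective (I.X n)) (m n : ℤ) :
    IsFilteredInjective (((shiftFunctor (CochainComplex (FilF A) ℤ) m).obj I).X n) :=
  hI (n + m)

/-- homotopy classes of maps into a bounded below complex of filtered injectives -/
lemma quotient_eq_zero (K I : CochainComplex (FilF A) ℤ) (hK : IsFilteredAcyclic K) (a : ℤ) [I.IsStrictlyGE a]
    (hI : ∀ n, IsFilteredInjective (I.X n))
    (f : (HomotopyCategory.quotient (FilF A) (ComplexShape.up ℤ)).obj K ⟶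
      (HomotopyCategory.quotient (FilF A) (ComplexShape.up ℤ)).obj I) : f = 0 := by
  obtain ⟨φ, rfl⟩ := (HomotopyCategory.quotient (FilF A) (ComplexShape.up ℤ)).map_surjective f
  obtain ⟨H⟩ := nonempty_homotopy_zero K I hK a hI φ
  rw [HomotopyCategory.eq_of_homotopy φ 0 H]
  exact (HomotopyCategory.quotient _ _).map_zero _ _

lemma bijective_precomp (I : CochainComplex (FilF A) ℤ) (a : ℤ) [I.IsStrictlyGE a]
    (hI : ∀ n, IsFilteredInjective (I.X n)) {K L : CochainComplex (FilF A) ℤ} (α : K ⟶ L)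
    (hα : IsFilteredQuasiIso α) :
    Function.Bijective (fun β : (HomotopyCategory.quotient (FilF A) (ComplexShape.up ℤ)).obj L ⟶
        (HomotopyCategory.quotient (FilF A) (ComplexShape.up ℤ)).obj I =>
      (HomotopyCategory.quotient (FilF A) (ComplexShape.up ℤ)).map α ≫ β) := by
  let T := CochainComplex.mappingCone.triangleh α
  have hT : T ∈ distTriang (HomotopyCategory (FilF A) (ComplexShape.up ℤ)) := HomotopyCategory.mappingCone_triangleh_distinguished α
  have hC := (qis_iff_acyclic_cone α).1 hα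
  let q := HomotopyCategory.quotient (FilF A) (ComplexShape.up ℤ)
  constructor
  · intro β β' h
    rw [← sub_eq_zero]
    obtain ⟨g, hg⟩ := T.yoneda_exact₂ hT (β - β') (by
      show q.map α ≫ (β - β') = 0
      rw [Preadditive.comp_sub]
      exact sub_eq_zero.2 h)
    rw [hg, show g = 0 from quotient_eq_zero _ I hC a hI g, comp_zero]
  · intro f
    haveI : ((shiftFunctor (CochainComplex (FilF A) ℤ) (1 : ℤ)).obj I).IsStrictlyGE (a - 1) :=
      (CochainComplex.isStrictlyGE_iff _ _).2 fun i hi => I.isZero_of_isStrictlyGE a (i + 1) (by omega)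
    have h0 : ∀ g : T.invRotate.obj₁ ⟶ q.obj I, g = 0 := by
      intro g
      apply (shiftFunctor (HomotopyCategory (FilF A) (ComplexShape.up ℤ)) (1 : ℤ)).map_injective
      rw [Functor.map_zero]
      let e : (shiftFunctor (HomotopyCategory (FilF A) (ComplexShape.up ℤ)) (1 : ℤ)).obj T.invRotate.obj₁ ≅
          q.obj (CochainComplex.mappingCone α) :=
        (shiftEquiv (HomotopyCategory (FilF A) (ComplexShape.up ℤ)) (1 : ℤ)).counitIso.app T.obj₃
      have := quotient_eq_zero _ _ hC (a - 1) (ofShift_isFilteredInjective hI 1)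
        (e.inv ≫ (shiftFunctor _ (1 : ℤ)).map g ≫ (q.commShiftIso (1 : ℤ)).inv.app I)
      rw [← cancel_epi e.inv, ← cancel_mono ((q.commShiftIso (1 : ℤ)).inv.app I)]
      simpa using this
    obtain ⟨β, hβ⟩ := T.invRotate.yoneda_exact₂ (inv_rot_of_distTriang _ hT) f (h0 _)
    exact ⟨β, hβ.symm⟩

lemma single_zero_homotopy {X : FilF A} {J : CochainComplex (FilF A) ℤ} [J.IsStrictlyGE 0]
    (u v : (CochainComplex.singleFunctor (FilF A) 0).obj X ⟶ J) (h : Homotopy u v) : u = v := by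
  ext1 n
  rw [h.comm n, dNext_eq _ (show (ComplexShape.up ℤ).Rel n (n + 1) from rfl),
    prevD_eq _ (show (ComplexShape.up ℤ).Rel (n - 1) n by simp)]
  have h1 : ((CochainComplex.singleFunctor (FilF A) 0).obj X).d n (n + 1) = 0 := by
    show ((HomologicalComplex.single (FilF A) (ComplexShape.up ℤ) 0).obj X).d n (n + 1) = 0
    rfl
  rw [h1, zero_comp, zero_add]
  by_cases hn : n = 0
  · subst hn
    rw [(J.isZero_of_isStrictlyGE 0 (0 - 1) (by omega)).eq_of_tgt (h.hom 0 (0 - 1)) 0, zero_comp, zero_add]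
  · rw [(isZero_single_obj_X (ComplexShape.up ℤ) 0 X n hn).eq_of_src (h.hom n (n - 1)) 0, zero_comp, zero_add]

lemma exists_map (X Y : FilF A) (f : X ⟶ Y)
    (I : CochainComplex (FilF A) ℤ) (a : (CochainComplex.singleFunctor (FilF A) 0).obj X ⟶ I) (ha : IsFilteredQuasiIso a)
    (J : CochainComplex (FilF A) ℤ) [J.IsStrictlyGE 0] (hJ : ∀ n, IsFilteredInjective (J.X n))
    (b : (CochainComplex.singleFunctor (FilF A) 0).obj Y ⟶ J) :
    ∃ φ : I ⟶ J, a ≫ φ = (CochainComplex.singleFunctor (FilF A) 0).map f ≫ b := by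
  obtain ⟨β, hβ⟩ := (bijective_precomp J 0 hJ a ha).2
    ((HomotopyCategory.quotient _ _).map ((CochainComplex.singleFunctor (FilF A) 0).map f ≫ b))
  obtain ⟨φ, rfl⟩ := (HomotopyCategory.quotient _ _).map_surjective β
  exact ⟨φ, single_zero_homotopy _ _ (HomotopyCategory.homotopyOfEq _ _ (by rw [Functor.map_comp]; exact hβ))⟩

lemma single_d (X : FilF A) (i j : ℤ) : ((CochainComplex.singleFunctor (FilF A) 0).obj X).d i j = 0 := rfl

/-- the horseshoe lemma -/
lemma horseshoe (S : ShortComplex (FilF A))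
    (hS : ∀ p : ℤ, (S.map ((IsFinFil A).ι ⋙ (evaluation ℤᵒᵖ A).obj (op p))).ShortExact)
    (I : CochainComplex (FilF A) ℤ) [I.IsStrictlyGE 0] (hI : ∀ n, IsFilteredInjective (I.X n))
    (a : (CochainComplex.singleFunctor (FilF A) 0).obj S.X₁ ⟶ I)
    (J : CochainComplex (FilF A) ℤ) [J.IsStrictlyGE 0]
    (c : (CochainComplex.singleFunctor (FilF A) 0).obj S.X₃ ⟶ J) (hc : IsFilteredQuasiIso c) :
    ∃ (M : CochainComplex (FilF A) ℤ) (α : I ⟶ M) (β : M ⟶ J) (b : (CochainComplex.singleFunctor (FilF A) 0).obj S.X₂ ⟶ M),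
      (∀ n, ∃ (r : M.X n ⟶ I.X n) (s : J.X n ⟶ M.X n), α.f n ≫ r = 𝟙 _ ∧ s ≫ β.f n = 𝟙 _ ∧ α.f n ≫ β.f n = 0 ∧
        r ≫ α.f n + β.f n ≫ s = 𝟙 _) ∧
      a ≫ α = (CochainComplex.singleFunctor (FilF A) 0).map S.f ≫ b ∧ b ≫ β = (CochainComplex.singleFunctor (FilF A) 0).map S.g ≫ c := by
  let S' := S.map (IsFinFil A).ι
  have hlev : ∀ p : ℤ, (S'.map ((evaluation ℤᵒᵖ A).obj (op p))).Exact := fun p => (hS p).exact
  haveI : Mono S'.f := by
    haveI : ∀ p, Mono (S'.f.app p) := fun p => (hS p.unop).mono_f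
    exact NatTrans.mono_of_mono_app _
  haveI : Epi S'.g := by
    haveI : ∀ p, Epi (S'.g.app p) := fun p => (hS p.unop).epi_g
    exact NatTrans.epi_of_epi_app _
  let a0 : S.X₁ ⟶ I.X 0 := (singleObjXSelf (ComplexShape.up ℤ) 0 S.X₁).inv ≫ a.f 0
  let c0 : S.X₃ ⟶ J.X 0 := (singleObjXSelf (ComplexShape.up ℤ) 0 S.X₃).inv ≫ c.f 0
  have ha0 : a0 ≫ I.d 0 (0 + 1) = 0 := by simp [a0, single_d, a.comm]
  have hc0 : c0 ≫ J.d 0 (0 + 1) = 0 := by simp [c0, single_d, c.comm]
  obtain ⟨g₀, hg₀⟩ := exists_factor S.X₁.property S.X₂.property (I.X 0).property (hI 0) S'.f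
    (strict_f_of_exact S' S.X₃.property.1 hlev) a0.hom (fun p T x hx => by
      haveI : Mono (S'.f.app (op p)) := (hS p).mono_f
      have h0 : x = 0 := by rw [← cancel_mono (S'.f.app (op p)), hx, zero_comp]
      simp [h0])
  let b' : S.X₂ ⟶ I.X 0 := ObjectProperty.homMk g₀
  have hb' : S.f ≫ b' = a0 := by ext1; exact hg₀
  have hS' : S'.Exact := exact_of_app S' hlev
  have hk : S'.f ≫ (b' ≫ I.d 0 (0 + 1)).hom = 0 := by
    have := congrArg InducedCategory.Hom.hom (show S.f ≫ b' ≫ I.d 0 (0 + 1) = 0 by rw [reassoc_of% hb', ha0])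
    exact this
  let γ : S.X₃ ⟶ I.X (0 + 1) := ObjectProperty.homMk (hS'.desc (b' ≫ I.d 0 (0 + 1)).hom hk)
  have hγ : S.g ≫ γ = b' ≫ I.d 0 (0 + 1) := by ext1; exact hS'.g_desc _ hk
  haveI : Epi S.g := (IsFinFil A).ι.epi_of_epi_map (show Epi S'.g by infer_instance)
  have hγd : ∀ k, γ ≫ I.d (0 + 1) k = 0 := fun k => by
    rw [← cancel_epi S.g, reassoc_of% hγ, I.d_comp_d, comp_zero, comp_zero]
  let I' := (shiftFunctor (CochainComplex (FilF A) ℤ) (1 : ℤ)).obj I
  haveI : I'.IsStrictlyGE (-1) :=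
    (CochainComplex.isStrictlyGE_iff _ _).2 fun i hi => I.isZero_of_isStrictlyGE 0 (i + 1) (by omega)
  let γs : (CochainComplex.singleFunctor (FilF A) 0).obj S.X₃ ⟶ I' :=
    mkHomFromSingle (-γ : S.X₃ ⟶ I'.X 0) (fun k _ => by
      show (-γ) ≫ ((1 : ℤ).negOnePow • I.d (0 + 1) (k + 1)) = 0
      have := hγd (k + 1)
      simpa using this)
  obtain ⟨β₀, hβ₀⟩ := (bijective_precomp I' (-1) (ofShift_isFilteredInjective hI 1) c hc).2
    ((HomotopyCategory.quotient _ _).map γs)
  obtain ⟨t, rfl⟩ := (HomotopyCategory.quotient _ _).map_surjective β₀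
  let hh : Homotopy (c ≫ t) γs := HomotopyCategory.homotopyOfEq _ _ (by rw [Functor.map_comp]; exact hβ₀)
  let h0 : S.X₃ ⟶ I.X 0 :=
    (singleObjXSelf (ComplexShape.up ℤ) 0 S.X₃).inv ≫ hh.hom 0 (-1) ≫ eqToHom (show I.X (-1 + 1) = I.X 0 by congr 1)
  let τ : ∀ n : ℤ, J.X n ⟶ I.X (n + 1) := fun n => t.f n
  have hct : c0 ≫ τ 0 = -γ - h0 ≫ I.d 0 (0 + 1) := by
    have h1 := hh.comm 0
    rw [dNext_eq _ (show (ComplexShape.up ℤ).Rel 0 (0 + 1) from rfl),
      prevD_eq _ (show (ComplexShape.up ℤ).Rel (-1) 0 from rfl), single_d, zero_comp, zero_add] at h1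
    have h2 : I'.d (-1) 0 = -(eqToHom (show I.X (-1 + 1) = I.X 0 by congr 1) ≫ I.d 0 (0 + 1)) := by
      show (1 : ℤ).negOnePow • I.d (-1 + 1) (0 + 1) = _
      simp
    have h3 : γs.f 0 = (singleObjXSelf (ComplexShape.up ℤ) 0 S.X₃).hom ≫ (-γ : S.X₃ ⟶ I'.X 0) := by
      simp [γs]
    show ((singleObjXSelf (ComplexShape.up ℤ) 0 S.X₃).inv ≫ c.f 0) ≫ t.f 0 = _
    rw [Category.assoc, ← comp_f, h1, h2, h3, Preadditive.comp_add, Iso.inv_hom_id_assoc]
    simp [h0]
    abel
  have hτd : ∀ n, τ n ≫ I.d (n + 1) (n + 1 + 1) + J.d n (n + 1) ≫ τ (n + 1) = 0 := fun n => by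
    have := t.comm n (n + 1)
    change t.f n ≫ ((1 : ℤ).negOnePow • I.d (n + 1) (n + 1 + 1)) = J.d n (n + 1) ≫ t.f (n + 1) at this
    simp only [Int.negOnePow_one, Units.neg_smul, one_smul, Preadditive.comp_neg] at this
    have h' : J.d n (n + 1) ≫ τ (n + 1) = -(τ n ≫ I.d (n + 1) (n + 1 + 1)) := this.symm
    rw [h', add_neg_cancel]
  let M : CochainComplex (FilF A) ℤ := CochainComplex.of (fun n => I.X n ⊞ J.X n)
    (fun n => biprod.desc (I.d n (n + 1) ≫ biprod.inl) (τ n ≫ biprod.inl + J.d n (n + 1) ≫ biprod.inr))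
    (fun n => by
      apply biprod.hom_ext'
      · simp
      · simp only [biprod.inr_desc_assoc, Preadditive.add_comp, Category.assoc, biprod.inl_desc, biprod.inr_desc,
          Preadditive.comp_add, comp_zero, HomologicalComplex.d_comp_d_assoc, zero_comp, add_zero, ← add_assoc,
          reassoc_of% (show τ n ≫ I.d (n + 1) (n + 1 + 1) = -(J.d n (n + 1) ≫ τ (n + 1)) from
            eq_neg_of_add_eq_zero_left (hτd n))]
        simp)
  have hMd : ∀ n, M.d n (n + 1) =
      biprod.desc (I.d n (n + 1) ≫ biprod.inl) (τ n ≫ biprod.inl + J.d n (n + 1) ≫ biprod.inr) := fun n => by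
    simp [M, CochainComplex.of.d]
  let α : I ⟶ M := { f := fun n => biprod.inl
                     comm' := fun i j hij => by obtain rfl : i + 1 = j := hij; rw [hMd]; simp }
  let β : M ⟶ J := { f := fun n => biprod.snd
                     comm' := fun i j hij => by
                       obtain rfl : i + 1 = j := hij; rw [hMd]; apply biprod.hom_ext' <;> simp }
  let b'' : S.X₂ ⟶ I.X 0 := b' + S.g ≫ h0
  let b : (CochainComplex.singleFunctor (FilF A) 0).obj S.X₂ ⟶ M :=
    mkHomFromSingle (biprod.lift b'' (S.g ≫ c0) : S.X₂ ⟶ M.X 0) (fun k hk => by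
      obtain rfl : 0 + 1 = k := hk
      rw [hMd]
      simp only [biprod.lift_desc, Preadditive.comp_add, Category.assoc, b'', Preadditive.add_comp,
        reassoc_of% hct, reassoc_of% hc0, zero_comp, comp_zero, add_zero, Preadditive.sub_comp, Preadditive.neg_comp,
        Preadditive.comp_sub, Preadditive.comp_neg, reassoc_of% hγ]
      abel)
  refine ⟨M, α, β, b, fun n => ⟨biprod.fst, biprod.inr, biprod.inl_fst, biprod.inr_snd, biprod.inl_snd, biprod.total⟩,
    ?_, ?_⟩
  · apply HomologicalComplex.from_single_hom_ext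
    rw [comp_f, comp_f]
    show a.f 0 ≫ biprod.inl = ((HomologicalComplex.single (FilF A) (ComplexShape.up ℤ) 0).map S.f).f 0 ≫ b.f 0
    rw [single_map_f_self]
    simp only [b, mkHomFromSingle_f, Category.assoc, Iso.inv_hom_id_assoc]
    rw [← cancel_epi (singleObjXSelf (ComplexShape.up ℤ) 0 S.X₁).inv, Iso.inv_hom_id_assoc]
    apply biprod.hom_ext
    · simp [b'', hb', reassoc_of% S.zero, a0]
    · simp [reassoc_of% S.zero]
  · apply HomologicalComplex.from_single_hom_ext
    rw [comp_f, comp_f]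
    show b.f 0 ≫ biprod.snd = ((HomologicalComplex.single (FilF A) (ComplexShape.up ℤ) 0).map S.g).f 0 ≫ c.f 0
    rw [single_map_f_self]
    simp [b, c0]

end Groth.Agent.H7.Fil
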