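import Groth.Agent.H7.Fil.Basic

/-! Filtered injective objects. -/

set_option backward.isDefEq.respectTransparency false
set_option linter.unusedSectionVars false

universe v u

open CategoryTheory CategoryTheory.Limits Opposite ZeroObject FilD

namespace Groth.Agent.H7.Fil

variable {A : Type u} [Category.{v} A] [Abelian A]

/-- a natural transformation from step compatibilities -/
lemma exists_natTrans {F G : ℤᵒᵖ ⥤ A} (g : ∀ p : ℤ, F.obj (op p) ⟶ G.obj (op p))
    (h : ∀ p : ℤ, mp F (Int.le_add_one le_rfl : p ≤ p + 1) ≫ g p = g (p + 1) ≫ mp G (Int.le_add_one le_rfl)) :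
    ∃ φ : F ⟶ G, ∀ p : ℤ, φ.app (op p) = g p := by
  have key : ∀ (p q : ℤ) (hpq : p ≤ q), mp F hpq ≫ g p = g q ≫ mp G hpq := by
    intro p q hpq
    induction q, hpq using Int.le_induction with
    | base => simp [mp_refl]
    | succ q hq ih =>
      rw [← mp_comp F hq (Int.le_add_one le_rfl), Category.assoc, ih, ← Category.assoc, h, Category.assoc, mp_comp]
  exact ⟨{ app := fun p => g p.unop, naturality := fun p q f => key _ _ (leOfHom f.unop) }, fun p => rfl⟩

/-- filtered injectives have injective filtration steps -/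
lemma injective_app {I : ℤᵒᵖ ⥤ A} (hI : IsFinFil A I) (hinj : ∀ p : ℤ, Injective ((gr A p).obj I)) (p : ℤ) :
    Injective (I.obj (op p)) := by
  obtain ⟨b, hb⟩ := hI.2.1
  obtain ⟨d, hd⟩ : ∃ d : ℕ, b ≤ p + d := ⟨(b - p).toNat, by omega⟩
  induction d generalizing p with
  | zero => exact (hb p (by omega)).injective
  | succ d ih =>
    haveI := hI.1 (stepHom p)
    let S := ShortComplex.mk (I.map (stepHom p)) (grπ I p) (cokernel.condition _)
    have hS : S.ShortExact := { exact := ShortComplex.exact_of_g_is_cokernel _ (cokernelIsCokernel _) }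
    haveI : Injective S.X₁ := ih (p + 1) (by omega)
    haveI : Injective S.X₃ := hinj p
    exact Injective.of_iso hS.splittingOfInjective.isoBinaryBiproduct.symm (inferInstance : Injective (S.X₁ ⊞ S.X₃))

/-- maps into filtered injectives factor through strict morphisms -/
lemma exists_factor {X Y I : ℤᵒᵖ ⥤ A} (hX : IsFinFil A X) (hY : IsFinFil A Y) (hI : IsFinFil A I)
    (hinj : ∀ p : ℤ, Injective ((gr A p).obj I)) (d : X ⟶ Y) (hd : Strict d) (f : X ⟶ I)
    (hker : ∀ (p : ℤ) (T : A) (x : T ⟶ X.obj (op p)), x ≫ d.app (op p) = 0 → x ≫ f.app (op p) = 0) :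
    ∃ g : Y ⟶ I, d ≫ g = f := by
  obtain ⟨bX, hbX⟩ := hX.2.1
  obtain ⟨bY, hbY⟩ := hY.2.1
  set b := max bX bY
  have hk : ∀ k : ℕ, ∃ g : ∀ p : ℤ, Y.obj (op p) ⟶ I.obj (op p),
      (∀ p, b - k ≤ p → d.app (op p) ≫ g p = f.app (op p)) ∧
      ∀ p, b - k ≤ p → mp Y (Int.le_add_one le_rfl : p ≤ p + 1) ≫ g p = g (p + 1) ≫ mp I (Int.le_add_one le_rfl) := by
    intro k
    induction k with
    | zero =>
      exact ⟨fun p => 0, fun p hp => (hbX p (by omega)).eq_of_src _ _, fun p hp => by simp⟩
    | succ k ih =>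
      obtain ⟨g, hg1, hg2⟩ := ih
      set r := b - (k + 1 : ℕ) with hr
      have hle : r ≤ r + 1 := Int.le_add_one le_rfl
      let w := biprod.desc (d.app (op r)) (mp Y hle)
      let t := biprod.desc (f.app (op r)) (g (r + 1) ≫ mp I hle)
      have hw : kernel.ι w ≫ t = 0 := by
        have h0 := kernel.condition w
        obtain ⟨x, hx⟩ : ∃ x, x = kernel.ι w ≫ (biprod.fst : X.obj (op r) ⊞ Y.obj (op (r + 1)) ⟶ _) := ⟨_, rfl⟩
        obtain ⟨y, hy⟩ : ∃ y, y = kernel.ι w ≫ (biprod.snd : X.obj (op r) ⊞ Y.obj (op (r + 1)) ⟶ _) := ⟨_, rfl⟩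
        have hxy : x ≫ d.app (op r) = (-y) ≫ mp Y hle := by
          rw [Preadditive.neg_comp, eq_neg_iff_add_eq_zero, hx, hy]
          simpa [w, biprod.desc_eq, Preadditive.comp_add] using h0
        obtain ⟨T', e, he, x', hx'⟩ := hd r (r + 1) hle _ x (-y) hxy
        have h1 := hker r T' (e ≫ x - x' ≫ mp X hle) (by
          rw [Preadditive.sub_comp, Category.assoc, Category.assoc, hxy, mp_nat, reassoc_of% hx', sub_self])
        rw [← cancel_epi e, comp_zero]
        have h2 : kernel.ι w ≫ t = x ≫ f.app (op r) + y ≫ g (r + 1) ≫ mp I hle := by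
          simp [t, hx, hy, biprod.desc_eq, Preadditive.comp_add]
        rw [h2, Preadditive.comp_add]
        rw [Preadditive.sub_comp, Category.assoc, Category.assoc, sub_eq_zero, mp_nat] at h1
        rw [h1, ← hg1 (r + 1) (by omega), Category.assoc, ← reassoc_of% hx']
        simp
      haveI := injective_app hI hinj r
      let s := Injective.factorThru (cokernel.desc (kernel.ι w) t hw) (Abelian.factorThruCoimage w)
      have hs : w ≫ s = t := by
        rw [show w = cokernel.π (kernel.ι w) ≫ Abelian.factorThruCoimage w from (Abelian.coimage.fac w).symm,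
          Category.assoc, Injective.comp_factorThru, cokernel.π_desc]
      refine ⟨Function.update g r s, fun p hp => ?_, fun p hp => ?_⟩
      · by_cases hpr : p = r
        · subst hpr
          rw [Function.update_self]
          simpa [w, t] using congrArg (biprod.inl ≫ ·) hs
        · rw [Function.update_of_ne hpr]
          exact hg1 p (by omega)
      · rw [Function.update_of_ne (show p + 1 ≠ r by omega)]
        by_cases hpr : p = r
        · subst hpr
          rw [Function.update_self]
          simpa [w, t] using congrArg (biprod.inr ≫ ·) hs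
        · rw [Function.update_of_ne hpr]
          exact hg2 p (by omega)
  obtain ⟨aX, haX⟩ := hX.2.2
  obtain ⟨aY, haY⟩ := hY.2.2
  set a := min b (min aX aY)
  obtain ⟨g, hg1, hg2⟩ := hk (b - a).toNat
  haveI hYi : ∀ (p : ℤ) (h : p ≤ a), IsIso (mp Y h) := fun p h => haY _ (show a ≤ aY by omega)
  haveI hXi : ∀ (p : ℤ) (h : p ≤ a), IsIso (mp X h) := fun p h => haX _ (show a ≤ aX by omega)
  let G : ∀ p : ℤ, Y.obj (op p) ⟶ I.obj (op p) := fun p =>
    if h : a ≤ p then g p else
      (haveI := hYi p (le_of_not_ge h); inv (mp Y (le_of_not_ge h)) ≫ g a ≫ mp I (le_of_not_ge h))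
  have hlow : ∀ (p : ℤ) (h : p ≤ a), mp Y h ≫ G p = g a ≫ mp I h := by
    intro p h
    by_cases h' : a ≤ p
    · obtain rfl : p = a := le_antisymm h h'
      simp [G, mp_refl]
    · simp [G, dif_neg h']
  obtain ⟨φ, hφ⟩ := exists_natTrans G (fun p => by
    by_cases h : a ≤ p
    · simp only [G, dif_pos h, dif_pos (show a ≤ p + 1 by omega)]
      exact hg2 p (by omega)
    · haveI := hYi (p + 1) (by omega)
      rw [← cancel_epi (mp Y (show p + 1 ≤ a by omega)), ← Category.assoc, mp_comp, hlow p (by omega),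
        ← Category.assoc _ (G (p + 1)), hlow (p + 1) (by omega), Category.assoc, mp_comp])
  refine ⟨φ, ?_⟩
  ext ⟨p⟩
  rw [NatTrans.comp_app, hφ]
  by_cases h : a ≤ p
  · simp only [G, dif_pos h]
    exact hg1 p (by omega)
  · haveI := hXi p (by omega)
    rw [← cancel_epi (mp X (show p ≤ a by omega)), mp_nat_assoc, hlow p (by omega), mp_nat, ← Category.assoc,
      hg1 a (by omega)]

/-- the one-step filtered object: `J` in degrees `≤ q` -/
noncomputable def cut (q : ℤ) (J : A) : ℤᵒᵖ ⥤ A where
  obj p := if p.unop ≤ q then J else 0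
  map {p p'} f := if h : p.unop ≤ q then
      eqToHom (by rw [if_pos h, if_pos ((leOfHom f.unop).trans h)]) else 0
  map_id p := by
    split_ifs with h
    · simp
    · exact ((isZero_zero A).of_iso (eqToIso (if_neg h))).eq_of_src _ _
  map_comp {p p' p''} f g := by
    by_cases h : p.unop ≤ q
    · simp [dif_pos h, dif_pos ((leOfHom f.unop).trans h)]
    · simp [dif_neg h]

lemma cut_isZero (q : ℤ) (J : A) (p : ℤ) (hp : q < p) : IsZero ((cut q J).obj (op p)) :=
  (isZero_zero A).of_iso (eqToIso (if_neg (show ¬ p ≤ q by omega)))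

/-- identification below the cut -/
noncomputable def cutIso (q : ℤ) (J : A) (p : ℤ) (hp : p ≤ q) : (cut q J).obj (op p) ≅ J := eqToIso (if_pos hp)

lemma cut_mp (q : ℤ) (J : A) {p p' : ℤ} (h : p ≤ p') (h' : p' ≤ q) :
    mp (cut q J) h = (cutIso q J p' h').hom ≫ (cutIso q J p (h.trans h')).inv := by
  simp [mp, cut, cutIso, dif_pos h']

lemma fin_cut (q : ℤ) (J : A) : IsFinFil A (cut q J) := by
  refine ⟨fun p p' f => ?_, ⟨q + 1, fun p hp => cut_isZero q J p (by omega)⟩, q, fun p p' f hp => ?_⟩
  · by_cases h : p.unop ≤ q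
    · rw [map_eq_mp, cut_mp q J _ h]; exact mono_comp _ _
    · exact ⟨fun a b _ => (cut_isZero q J p.unop (by omega)).eq_of_tgt a b⟩
  · rw [map_eq_mp, cut_mp q J _ hp]; exact IsIso.comp_isIso

lemma injective_gr_cut (q : ℤ) (J : A) [Injective J] (j : ℤ) : Injective ((gr A j).obj (cut q J)) := by
  rcases lt_trichotomy j q with h | rfl | h
  · refine IsZero.injective (IsZero.of_epi_eq_zero (grπ (cut q J) j) ?_)
    haveI : IsIso (mp (cut q J) (Int.le_add_one le_rfl : j ≤ j + 1)) := by
      rw [cut_mp q J _ (show j + 1 ≤ q by omega)]; infer_instance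
    rw [← cancel_epi (mp (cut q J) (Int.le_add_one le_rfl : j ≤ j + 1))]
    simp
  · haveI : IsIso (grπ (cut j J) j) :=
      ⟨cokernel.desc _ (𝟙 _) ((cut_isZero j J (j + 1) (by omega)).eq_of_src _ _), cokernel.π_desc _ _ _, by
        rw [← cancel_epi (cokernel.π ((cut j J).map (stepHom j))), cokernel.π_desc_assoc, Category.id_comp]
        exact (Category.comp_id _).symm⟩
    exact Injective.of_iso ((cutIso j J j le_rfl).symm ≪≫ asIso (grπ (cut j J) j)) inferInstance
  · exact IsZero.injective (IsZero.of_epi (grπ (cut q J) j) (cut_isZero q J j h))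

/-- a map to a cut from a map on the corresponding graded piece -/
lemma exists_toCut {X : ℤᵒᵖ ⥤ A} (hX : IsFinFil A X) (q : ℤ) (J : A) [Injective J] (ψ : (gr A q).obj X ⟶ J) :
    ∃ v : X ⟶ cut q J, v.app (op q) ≫ (cutIso q J q le_rfl).hom = grπ X q ≫ ψ := by
  obtain ⟨a₀, ha₀⟩ := hX.2.2
  set a := min a₀ q
  haveI hXi : ∀ (p : ℤ) (h : p ≤ a), IsIso (mp X h) := fun p h => ha₀ _ (show a ≤ a₀ by omega)
  haveI := hX.1 (homOfLE (show a ≤ q by omega)).op
  let τ := Injective.factorThru (grπ X q ≫ ψ) (mp X (show a ≤ q by omega))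
  let t : ∀ p, p ≤ q → (X.obj (op p) ⟶ J) := fun p _ =>
    haveI := hXi (min a p) (min_le_left _ _)
    mp X (min_le_right a p) ≫ inv (mp X (min_le_left a p)) ≫ τ
  obtain ⟨v, hv⟩ := exists_natTrans (G := cut q J)
    (fun p => if h : p ≤ q then t p h ≫ (cutIso q J p h).inv else 0) (fun p => by
      by_cases h : p + 1 ≤ q
      · simp only [dif_pos h, dif_pos (show p ≤ q by omega)]
        haveI := hXi (min a p) (min_le_left _ _)
        haveI := hXi (min a (p + 1)) (min_le_left _ _)
        have hm : min a p ≤ min a (p + 1) := by omega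
        have h1 : inv (mp X (min_le_left a (p + 1))) = mp X hm ≫ inv (mp X (min_le_left a p)) := by
          rw [IsIso.eq_comp_inv, ← cancel_epi (mp X (min_le_left a (p + 1))), IsIso.hom_inv_id_assoc, mp_comp]
        simp only [t, cut_mp q J _ h, h1, Category.assoc, mp_comp_assoc, Iso.inv_hom_id_assoc]
      · rw [dif_neg h, zero_comp]
        by_cases h' : p ≤ q
        · obtain rfl : p = q := by omega
          simp only [dif_pos h', t, ← Category.assoc, mp_comp]
          have e : ∀ (m : ℤ) (h₁ : m ≤ p + 1) (h₂ : m ≤ a) [IsIso (mp X h₂)], m = a →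
              mp X h₁ ≫ inv (mp X h₂) ≫ τ = 0 := by
            intro m h₁ h₂ _ hm
            subst hm
            have : inv (mp X h₂) = 𝟙 _ := by simp [mp_refl]
            rw [this, Category.id_comp, ← mp_comp X (show a ≤ p by omega) (Int.le_add_one le_rfl), Category.assoc,
              Injective.comp_factorThru]
            simp
          haveI := hXi (min a p) (min_le_left _ _)
          rw [Category.assoc (mp X _), e (min a p) _ (min_le_left a p) (by omega), zero_comp]
        · rw [dif_neg h', comp_zero])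
  refine ⟨v, ?_⟩
  rw [hv, dif_pos (le_refl q), Category.assoc, Iso.inv_hom_id, Category.comp_id]
  have e : ∀ (m : ℤ) (h₁ : m ≤ q) (h₂ : m ≤ a) [IsIso (mp X h₂)], m = a →
      mp X h₁ ≫ inv (mp X h₂) ≫ τ = grπ X q ≫ ψ := by
    intro m h₁ h₂ _ hm
    subst hm
    have : inv (mp X h₂) = 𝟙 _ := by simp [mp_refl]
    rw [this, Category.id_comp, Injective.comp_factorThru]
  haveI := hXi (min a q) (min_le_left _ _)
  exact e (min a q) _ _ (by omega)

/-- every finite filtered object embeds strictly into a filtered injective one -/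
lemma exists_embedding [EnoughInjectives A] {X : ℤᵒᵖ ⥤ A} (hX : IsFinFil A X) :
    ∃ (I : ℤᵒᵖ ⥤ A) (u : X ⟶ I), IsFinFil A I ∧ (∀ p : ℤ, Injective ((gr A p).obj I)) ∧
      Mono u ∧ Strict u ∧ ∀ p : ℤ, Mono ((gr A p).map u) := by
  obtain ⟨b, hb⟩ := hX.2.1
  obtain ⟨a, ha⟩ := hX.2.2
  have hk : ∀ k : ℕ, ∃ (I : ℤᵒᵖ ⥤ A) (u : X ⟶ I), IsFinFil A I ∧ (∀ p : ℤ, Injective ((gr A p).obj I)) ∧
      ∀ j, b - k ≤ j → j < b → Mono ((gr A j).map u) := by
    intro k
    induction k with
    | zero =>
      obtain ⟨Z, hZ, hZ'⟩ := (IsFinFil A).exists_prop_of_containsZero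
      exact ⟨Z, 0, hZ', fun p => ((gr A p).map_isZero hZ).injective, fun j h h' => absurd h' (by omega)⟩
    | succ k ih =>
      obtain ⟨I, u, hI, hinj, hu⟩ := ih
      set q := b - (k + 1 : ℕ)
      let pres := Injective.ι ((gr A q).obj X)
      obtain ⟨v, hv⟩ := exists_toCut hX q (Injective.under ((gr A q).obj X)) pres
      refine ⟨I ⊞ cut q _, biprod.lift u v, fin_biprod hI (fin_cut _ _), fun p => ?_, fun j hj hj' => ?_⟩
      · haveI := hinj p
        haveI := preservesBinaryBiproducts_of_preservesBiproducts (gr A p)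
        haveI := injective_gr_cut q (Injective.under ((gr A q).obj X)) p
        exact Injective.of_iso ((gr A p).mapBiprod I (cut q _)).symm inferInstance
      · by_cases hjq : j = q
        · subst hjq
          let l := cokernel.desc ((cut q (Injective.under ((gr A q).obj X))).map (stepHom q))
            (cutIso q _ q le_rfl).hom ((cut_isZero q _ (q + 1) (by omega)).eq_of_src _ _)
          have hl : (gr A q).map v ≫ l = pres := by
            rw [← cancel_epi (grπ X q), grπ_map_assoc]
            simp only [l, grπ, cokernel.π_desc]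
            exact hv
          haveI : Mono ((gr A q).map v) := mono_of_mono_fac hl
          haveI : Mono ((gr A q).map (biprod.lift u v) ≫ (gr A q).map (biprod.snd)) := by
            rw [← Functor.map_comp, biprod.lift_snd]; infer_instance
          exact mono_of_mono _ ((gr A q).map (biprod.snd))
        · haveI := hu j (by omega) hj'
          haveI : Mono ((gr A j).map (biprod.lift u v) ≫ (gr A j).map (biprod.fst)) := by
            rw [← Functor.map_comp, biprod.lift_fst]; infer_instance
          exact mono_of_mono _ ((gr A j).map (biprod.fst))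
  obtain ⟨I, u, hI, hinj, hu⟩ := hk (b - a).toNat
  have hall : ∀ j, Mono ((gr A j).map u) := fun j => by
    by_cases h1 : b ≤ j
    · exact ⟨fun x y _ => (IsZero.of_epi (grπ X j) (hb j h1)).eq_of_tgt x y⟩
    by_cases h2 : b - (b - a).toNat ≤ j
    · exact hu j h2 (by omega)
    · haveI : IsIso (X.map (stepHom j)) := ha _ (show j + 1 ≤ a by omega)
      have hz : grπ X j = 0 := by rw [← cancel_epi (X.map (stepHom j))]; simp [grπ]
      exact ⟨fun x y _ => (IsZero.of_epi_eq_zero (grπ X j) hz).eq_of_tgt x y⟩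
  obtain ⟨hm, hs⟩ := strict_of_mono_gr u hX.2.1 hI.1 hall
  exact ⟨I, u, hI, hinj, hm, hs, hall⟩

end Groth.Agent.H7.Fil
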